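import Cfsg.Agent.Lib.DihedralBGroup12.SRing

/-! In a rational primitive Schur ring over a dihedral group no basic set other than the trivial one
meets the cyclic subgroup only in elements of order prime to a given odd prime. -/

namespace Cfsg.Agent.Lib.DihedralBGroup12

open Finset

set_option autoImplicit false
set_option maxHeartbeats 400000
set_option linter.unusedSectionVars false

theorem choose_pow_dvd {p : ℕ} (hp : p.Prime) (hodd : Odd p) (N j : ℕ) (hj : j ≠ 0) :
    ∃ v j', j = p ^ v * j' ∧ p ^ (N + 1) ∣ (p ^ N).choose (2 * j) * p ^ (v + 1) := by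
  refine ⟨j.factorization p, j / p ^ j.factorization p,
    (Nat.mul_div_cancel' (Nat.ordProj_dvd j p)).symm, ?_⟩
  set v := j.factorization p
  set j' := j / p ^ v with hj'
  have hcop : Nat.Coprime (p ^ N) (2 * j') :=
    Nat.Coprime.pow_left N (Nat.Coprime.mul_right (Nat.coprime_two_right.2 hodd)
      (Nat.coprime_ordCompl hp hj))
  have hq : 0 < p ^ N := pow_pos hp.pos N
  have h1 : p ^ N ∣ (p ^ N).choose (2 * j) * (2 * j) := by
    have := Nat.add_one_mul_choose_eq (p ^ N - 1) (2 * j - 1)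
    rw [Nat.sub_add_cancel hq, Nat.sub_add_cancel (by omega : 1 ≤ 2 * j)] at this
    exact ⟨_, this.symm⟩
  have h2 : p ^ N ∣ (p ^ N).choose (2 * j) * p ^ v * (2 * j') := by
    have e : 2 * j = p ^ v * (2 * j') := by
      rw [mul_left_comm, hj', Nat.mul_div_cancel' (Nat.ordProj_dvd j p)]
    rw [mul_assoc, ← e]
    exact h1
  have h3 := hcop.dvd_of_dvd_mul_right h2
  rw [pow_succ, pow_succ, ← mul_assoc]
  exact Nat.mul_dvd_mul_right h3 p

theorem coprime_orderOf_mul {C : Type*} [CommGroup C] [Fintype C] {p : ℕ} (hp : p.Prime) {a b : C}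
    (ha : ¬ p ∣ orderOf a) (hb : ¬ p ∣ orderOf b) : ¬ p ∣ orderOf (a * b) := by
  intro h
  have := h.trans (Commute.orderOf_mul_dvd_mul_orderOf (Commute.all a b))
  rcases hp.dvd_mul.1 this with h | h <;> contradiction

/-- The elements of the group ring supported on elements of order prime to `p`. -/
def primeTo {C : Type*} [CommGroup C] [Fintype C] (p : ℕ) [Fact p.Prime] :
    Subring (MonoidAlgebra ℤ C) where
  carrier := {f | ∀ u, p ∣ orderOf u → f.coeff u = 0}
  mul_mem' {f g} hf hg := fun u hu => by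
    rw [coeff_mul_eq]
    refine Finset.sum_eq_zero fun s _ => ?_
    by_cases hs : p ∣ orderOf s
    · rw [hf s hs, zero_mul]
    · by_cases hs' : p ∣ orderOf (s⁻¹ * u)
      · rw [hg _ hs', mul_zero]
      · have := coprime_orderOf_mul (Fact.out : p.Prime) hs hs'
        rw [mul_inv_cancel_left] at this
        exact absurd hu this
  one_mem' := fun u hu => by
    classical
    have h1 : u ≠ 1 := fun h => by
      rw [h, orderOf_one, Nat.dvd_one] at hu
      exact (Fact.out : p.Prime).ne_one hu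
    simp [MonoidAlgebra.one_def, Finsupp.single_apply, h1.symm]
  add_mem' {f g} hf hg := fun u hu => by simp [hf u hu, hg u hu]
  zero_mem' := fun u _ => by simp
  neg_mem' {f} hf := fun u hu => by simp [hf u hu]

theorem sub_dvd_of_dvd {A : Type*} [CommRing A] {n : A} {a : A} {q : ℕ} (h : n ∣ a ^ q - a) :
    ∀ k : ℕ, n ∣ a ^ q ^ k - a
  | 0 => by simp
  | k + 1 => by
    have h1 := sub_dvd_of_dvd h k
    have h2 : n ∣ (a ^ q ^ k) ^ q - a ^ q := h1.trans (sub_dvd_pow_sub_pow _ _ q)
    have := dvd_add h2 h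
    rw [sub_add_sub_cancel] at this
    rwa [pow_succ, pow_mul]

namespace SR

variable {D : Type*} [Group D] [Fintype D] (R : SR D)
variable {C : Type*} [CommGroup C] [Fintype C] (M : Dih C D)

/-- Every class other than the trivial one meets the set of elements of `C` of order divisible by `p`. -/
theorem meets_singular [DecidableEq C] (hC : 2 ≤ Fintype.card C)
    (hrat : ∀ a b : C, orderOf a = orderOf b → R.r (M.ι a) (M.ι b))
    {p : ℕ} [hp : Fact p.Prime] (hodd : Odd p) (hpm : p ∣ Fintype.card C)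
    (g : D) (hg : g ≠ 1) : ∃ u, p ∣ orderOf u ∧ R.r g (M.ι u) := by
  classical
  let P1 : R.ring → Prop := fun x => ∀ u, p ∣ orderOf u → (x : MonoidAlgebra ℤ D).coeff (M.ι u) = 0
  have hdiv : ∀ (n : ℕ) (x y : R.ring),
      (∀ u, ((n : ℤ)) ∣ (x : MonoidAlgebra ℤ D).coeff (M.ι u) - (y : MonoidAlgebra ℤ D).coeff (M.ι u)) →
      (n : R.ring) ∣ x - y := fun n x y h => (R.natCast_dvd _).2 (R.dvd_of_cPart M hC (x - y).2
        fun c => by simpa using h c)
  have hfix : ∀ x : R.ring, (∀ u, p ∣ orderOf u → (p : ℤ) ∣ (x : MonoidAlgebra ℤ D).coeff (M.ι u)) →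
      ∀ k, (p : R.ring) ∣ x ^ p ^ k - x := by
    intro x hx
    refine sub_dvd_of_dvd (hdiv p _ _ fun w => ?_)
    rw [SubmonoidClass.coe_pow, ← ZMod.intCast_zmod_eq_zero_iff_dvd, Int.cast_sub, sub_eq_zero]
    have hpw := R.pow_prime_pow M hodd x.2 1 w
    rw [pow_one] at hpw
    rw [hpw]
    have h0 : ∀ u, p ∣ orderOf u → (((x : MonoidAlgebra ℤ D).coeff (M.ι u) : ℤ) : ZMod p) = 0 :=
      fun u hu => (ZMod.intCast_zmod_eq_zero_iff_dvd _ _).2 (hx u hu)
    by_cases hw : p ∣ orderOf w
    · rw [h0 w hw, Finset.sum_eq_zero]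
      intro a ha
      refine h0 a (hw.trans ?_)
      rw [← (Finset.mem_filter.1 ha).2]
      exact orderOf_pow_dvd p
    · have hcop : p.Coprime (orderOf w) := hp.out.coprime_iff_not_dvd.2 hw
      obtain ⟨k, hk⟩ := exists_pow_eq_self_of_coprime hcop
      have hmod : p * k ≡ 1 [MOD orderOf w] :=
        pow_eq_pow_iff_modEq.1 (by rw [pow_mul, hk, pow_one])
      have hroot : ∀ a : C, a ^ p = w → ¬ p ∣ orderOf a → orderOf a = orderOf w ∧ a = w ^ k := by
        intro a ha hpa
        have ho : orderOf a = orderOf w := by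
          rw [← ha, Nat.Coprime.orderOf_pow (hp.out.coprime_iff_not_dvd.2 hpa).symm]
        refine ⟨ho, ?_⟩
        rw [← ha, ← pow_mul]
        conv_lhs => rw [← pow_one a]
        exact (pow_eq_pow_iff_modEq.2 (ho ▸ hmod)).symm
      have hw0 : (w ^ k) ^ p = w := by rw [← pow_mul, mul_comm, pow_mul, hk]
      have hw0' : ¬ p ∣ orderOf (w ^ k) := fun h => hw (h.trans (orderOf_pow_dvd k))
      rw [Finset.sum_eq_single_of_mem (w ^ k) (Finset.mem_filter.2 ⟨Finset.mem_univ _, hw0⟩)]
      · rw [x.2 _ _ (hrat _ _ (hroot _ hw0 hw0').1)]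
      · intro b hb hbne
        by_cases hpb : p ∣ orderOf b
        · exact h0 b hpb
        · exact absurd (hroot b (Finset.mem_filter.1 hb).2 hpb).2 hbne
  set s := (Fintype.card C).factorization p
  have hsv : ∀ a : C, ¬ p ∣ orderOf (a ^ p ^ s) := by
    intro a h
    have h1 : (a ^ p ^ s) ^ (Fintype.card C / p ^ s) = 1 := by
      rw [← pow_mul, Nat.mul_div_cancel' (Nat.ordProj_dvd _ p), pow_card_eq_one]
    exact Nat.not_dvd_ordCompl hp.out Fintype.card_ne_zero (h.trans (orderOf_dvd_of_pow_eq_one h1))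
  have hcoe : ∀ (x : R.ring) (n : ℕ),
      ((x ^ n : R.ring) : MonoidAlgebra ℤ D) = (x : MonoidAlgebra ℤ D) ^ n := fun x n => rfl
  -- products of supported elements, modulo `p`
  have hP1 : ∀ x y : R.ring, P1 x → P1 y → ∀ u, p ∣ orderOf u →
      (p : ℤ) ∣ ((x * y : R.ring) : MonoidAlgebra ℤ D).coeff (M.ι u) := by
    intro x y hx hy u hu
    have h1 := hfix x (fun v hv => by rw [hx v hv]; exact dvd_zero _) s
    have h2 := hfix y (fun v hv => by rw [hy v hv]; exact dvd_zero _) s
    have h3 : (p : R.ring) ∣ (x * y) ^ p ^ s - x * y := by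
      have := dvd_add (h1.mul_right (y ^ p ^ s)) (h2.mul_left x)
      convert this using 1
      ring
    have h4 : (p : ℤ) ∣ (((x * y : R.ring) : MonoidAlgebra ℤ D) ^ p ^ s).coeff (M.ι u) := by
      rw [← ZMod.intCast_zmod_eq_zero_iff_dvd, R.pow_prime_pow M hodd (x * y).2 s u]
      refine Finset.sum_eq_zero fun a ha => absurd ?_ (hsv a)
      rw [(Finset.mem_filter.1 ha).2]
      exact hu
    have h5 := (R.natCast_dvd _).1 h3 (M.ι u)
    simpa [hcoe] using dvd_sub h4 h5
  -- Teichmüller representatives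
  have hteich : ∀ (N : ℕ) (x : R.ring), P1 x → ∀ u, p ∣ orderOf u →
      (p : ℤ) ^ (N + 1) ∣ ((x : MonoidAlgebra ℤ D) ^ p ^ N).coeff (M.ι u) := by
    intro N x hx
    set A := M.cPart (x : MonoidAlgebra ℤ D)
    set B := M.sPart (x : MonoidAlgebra ℤ D)
    set h := B * Dih.star B
    have hA : A ∈ primeTo p := fun u hu => hx u hu
    let h0 : MonoidAlgebra ℤ C := ofFun fun u => if p ∣ orderOf u then 0 else h.coeff u
    have hh0 : h0 ∈ primeTo p := fun u hu => by simp [h0, hu]
    have hdvd : (p : MonoidAlgebra ℤ C) ∣ h - h0 := by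
      refine ⟨ofFun fun u => if p ∣ orderOf u then h.coeff u / p else 0, ?_⟩
      ext u
      rw [coeff_natCast_mul, coeff_ofFun, MonoidAlgebra.coeff_sub, Finsupp.sub_apply, coeff_ofFun]
      by_cases hu : p ∣ orderOf u
      · have h1 := hP1 x x hx hx u hu
        rw [Subring.coe_mul, ← M.cPart_coeff, M.cPart_mul, MonoidAlgebra.coeff_add, Finsupp.add_apply,
          (mul_mem hA hA : A * A ∈ primeTo p) u hu, zero_add] at h1
        rw [if_pos hu, if_pos hu, sub_zero, Int.mul_ediv_cancel' h1]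
      · rw [if_neg hu, if_neg hu, sub_self, mul_zero]
    intro u hu
    have hre := (M.pow_parts (x : MonoidAlgebra ℤ D) (R.star_cPart M x.2) (p ^ N)).1
    rw [Dih.re_add_omega_pow] at hre
    rw [← M.cPart_coeff, hre, MonoidAlgebra.coeff_sum, Finsupp.finsetSum_apply]
    refine Finset.dvd_sum fun k _ => ?_
    by_cases hk : Even k
    · rw [if_pos hk]
      obtain ⟨j, rfl⟩ := hk
      rw [show (j + j) / 2 = j by omega, show j + j = 2 * j by ring]
      set b := (p ^ N).choose (2 * j)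
      change (p : ℤ) ^ (N + 1) ∣
        ((b : MonoidAlgebra ℤ C) * A ^ (p ^ N - 2 * j) * h ^ j).coeff u
      have hdv : ((p ^ (N + 1) : ℕ) : MonoidAlgebra ℤ C) ∣
          (b : MonoidAlgebra ℤ C) * (h ^ j - h0 ^ j) := by
        rcases eq_or_ne j 0 with rfl | hj
        · simp
        obtain ⟨v, j', hjv, hb⟩ := choose_pow_dvd hp.out hodd N j hj
        have h1 : (p : MonoidAlgebra ℤ C) ^ (v + 1) ∣ h ^ j - h0 ^ j := by
          rw [hjv, mul_comm, pow_mul, pow_mul]
          exact dvd_sub_pow_of_dvd_sub (hdvd.trans (sub_dvd_pow_sub_pow _ _ j')) v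
        obtain ⟨c, hc⟩ := hb
        obtain ⟨d, hd⟩ := h1
        refine ⟨(c : MonoidAlgebra ℤ C) * d, ?_⟩
        rw [hd, ← mul_assoc, ← mul_assoc]
        congr 1
        exact_mod_cast congrArg (Nat.cast : ℕ → MonoidAlgebra ℤ C) hc
      obtain ⟨c, hc⟩ := hdv
      have e : (b : MonoidAlgebra ℤ C) * A ^ (p ^ N - 2 * j) * h ^ j =
          (b : MonoidAlgebra ℤ C) * A ^ (p ^ N - 2 * j) * h0 ^ j +
            ((p ^ (N + 1) : ℕ) : MonoidAlgebra ℤ C) * (A ^ (p ^ N - 2 * j) * c) := by
        linear_combination (A ^ (p ^ N - 2 * j)) * hc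
      rw [e, MonoidAlgebra.coeff_add, Finsupp.add_apply, coeff_natCast_mul,
        (mul_mem (mul_mem (natCast_mem (primeTo p) b) (pow_mem hA _)) (pow_mem hh0 j)) u hu, zero_add]
      push_cast
      exact dvd_mul_right _ _
    · rw [if_neg hk, mul_zero]
      simp
  have hpc : ∀ (n : ℕ) (z : R.ring) (c : D), (((p : R.ring) ^ n * z : R.ring) : MonoidAlgebra ℤ D).coeff c =
      (p : ℤ) ^ n * (z : MonoidAlgebra ℤ D).coeff c := fun n z c => by
    rw [← Nat.cast_pow, Subring.coe_mul, SubringClass.coe_natCast, coeff_natCast_mul, Nat.cast_pow]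
  -- elements supported modulo `p ^ N`
  let L : ℕ → R.ring → Prop := fun N x => ∀ u, p ∣ orderOf u →
    (p : ℤ) ^ N ∣ (x : MonoidAlgebra ℤ D).coeff (M.ι u)
  have hdec : ∀ N x, L N x → ∃ x0 x1 : R.ring, P1 x0 ∧ x = x0 + (p : R.ring) ^ N * x1 := by
    intro N x hx
    have hinv : R.Inv (ofFun fun g => if ∃ u, p ∣ orderOf u ∧ R.r g (M.ι u) then
        (x : MonoidAlgebra ℤ D).coeff g / (p : ℤ) ^ N else 0) := by
      intro g k hgk
      simp only [coeff_ofFun]
      rw [x.2 g k hgk]
      refine if_congr ⟨fun ⟨u, h1, h2⟩ => ⟨u, h1, R.equiv.trans (R.equiv.symm hgk) h2⟩,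
        fun ⟨u, h1, h2⟩ => ⟨u, h1, R.equiv.trans hgk h2⟩⟩ rfl rfl
    obtain ⟨x1, hx1⟩ : ∃ x1 : R.ring, ∀ g, (∃ u, p ∣ orderOf u ∧ R.r g (M.ι u)) →
        (x1 : MonoidAlgebra ℤ D).coeff g = (x : MonoidAlgebra ℤ D).coeff g / (p : ℤ) ^ N :=
      ⟨⟨_, hinv⟩, fun g hg => (coeff_ofFun _ g).trans (if_pos hg)⟩
    refine ⟨x - (p : R.ring) ^ N * x1, x1, fun u hu => ?_, (sub_add_cancel _ _).symm⟩
    rw [AddSubgroupClass.coe_sub, MonoidAlgebra.coeff_sub, Finsupp.sub_apply, hpc,
      hx1 _ ⟨u, hu, R.equiv.refl _⟩, Int.mul_ediv_cancel' (hx u hu), sub_self]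
  have hL : ∀ N (x y : R.ring), P1 x → L N y → ∀ z, L N (x + y + (p : R.ring) ^ N * z) := by
    intro N x y hx hy z u hu
    rw [AddMemClass.coe_add, AddMemClass.coe_add, MonoidAlgebra.coeff_add, MonoidAlgebra.coeff_add,
      Finsupp.add_apply, Finsupp.add_apply, hpc, hx u hu, zero_add]
    exact dvd_add (hy u hu) (dvd_mul_right _ _)
  have hLmul : ∀ N (x : R.ring) (n : ℕ), L N x → L (N + n) ((p : R.ring) ^ n * x) := by
    intro N x n hx u hu
    rw [hpc, pow_add, mul_comm ((p : ℤ) ^ N)]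
    exact mul_dvd_mul_left _ (hx u hu)
  have hLadd : ∀ N (x y : R.ring), L N x → L N y → L N (x + y) := by
    intro N x y hx hy u hu
    rw [AddMemClass.coe_add, MonoidAlgebra.coeff_add, Finsupp.add_apply]
    exact dvd_add (hx u hu) (hy u hu)
  have hzero : P1 0 := fun u _ => by simp
  have main : ∀ N, ∀ x y : R.ring, P1 x → P1 y → L (N + 1) (x * y) := by
    intro N
    induction N with
    | zero => intro x y hx hy u hu; simpa using hP1 x y hx hy u hu
    | succ N ihN =>
      intro x y hx hy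
      set q := p ^ (N + 1)
      obtain ⟨e, he⟩ := hfix x (fun v hv => by rw [hx v hv]; exact dvd_zero _) (N + 1)
      obtain ⟨f, hf⟩ := hfix y (fun v hv => by rw [hy v hv]; exact dvd_zero _) (N + 1)
      have htx : L (N + 2) (x ^ q) := fun u hu => hteich (N + 1) x hx u hu
      have hty : L (N + 2) (y ^ q) := fun u hu => hteich (N + 1) y hy u hu
      have hsub : ∀ a a' e' : R.ring, a ^ q - a = (p : R.ring) * e' → P1 a → L (N + 2) (a ^ q) →
          a' = e' → L (N + 1) a' := by
        rintro a _ e' h ha ht rfl u hu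
        have h1 := congrArg (fun t : R.ring => (t : MonoidAlgebra ℤ D).coeff (M.ι u)) h
        simp only [AddSubgroupClass.coe_sub, Subring.coe_mul, SubringClass.coe_natCast,
          MonoidAlgebra.coeff_sub, Finsupp.sub_apply, coeff_natCast_mul, ha u hu, sub_zero] at h1
        have h2 := ht u hu
        rw [h1, pow_succ' (p : ℤ) (N + 1)] at h2
        exact (mul_dvd_mul_iff_left (Int.natCast_ne_zero.2 hp.out.ne_zero)).1 h2
      have hLe : L (N + 1) e := hsub x e e he hx htx rfl
      have hLf : L (N + 1) f := hsub y f f hf hy hty rfl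
      have hmm : ∀ a b : R.ring, L (N + 1) a → L (N + 1) b → L (N + 1) (a * b) := by
        intro a b ha hb
        obtain ⟨a0, a1, ha0, rfl⟩ := hdec _ a ha
        obtain ⟨b0, b1, hb0, rfl⟩ := hdec _ b hb
        rw [show (a0 + (p : R.ring) ^ (N + 1) * a1) * (b0 + (p : R.ring) ^ (N + 1) * b1) =
          0 + a0 * b0 + (p : R.ring) ^ (N + 1) *
            (a0 * b1 + a1 * b0 + (p : R.ring) ^ (N + 1) * (a1 * b1)) by ring]
        exact hL _ _ _ hzero (ihN a0 b0 ha0 hb0) _
      have hdown : ∀ a : R.ring, L (N + 2) a → L (N + 1) a := fun a ha u hu =>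
        (pow_dvd_pow _ (by omega)).trans (ha u hu)
      -- the product of the representatives
      obtain ⟨z, z1, hz, hxy⟩ := hdec 1 (x * y) (fun u hu => by
        rw [pow_one]; exact (dvd_pow_self (p : ℤ) (Nat.succ_ne_zero N)).trans (ihN x y hx hy u hu))
      have hprod : L (N + 2) ((x * y) ^ q) := by
        obtain ⟨d, hd⟩ := dvd_sub_pow_of_dvd_sub (p := p) (a := x * y) (b := z)
          ⟨z1, by rw [hxy]; ring⟩ (N + 1)
        rw [show (x * y) ^ q = 0 + z ^ q + (p : R.ring) ^ (N + 2) * d by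
          rw [zero_add, ← hd]; ring]
        exact hL _ _ _ hzero (fun u hu => hteich (N + 1) z hz u hu) _
      have e1 : x * y = (x * y) ^ q + (p : R.ring) ^ 1 * (-e * y ^ q + -(x ^ q) * f) +
          (p : R.ring) ^ 2 * (e * f) := by
        have hx' : x = x ^ q - (p : R.ring) * e := by rw [← he]; ring
        have hy' : y = y ^ q - (p : R.ring) * f := by rw [← hf]; ring
        conv_lhs => rw [hx', hy']
        ring
      have hneg : ∀ a : R.ring, L (N + 1) a → L (N + 1) (-a) := fun a ha u hu => by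
        simpa using ha u hu
      rw [e1]
      refine hLadd _ _ _ (hLadd _ _ _ hprod (hLmul _ _ 1 (hLadd _ _ _ ?_ ?_))) ?_
      · exact hmm _ _ (hneg _ hLe) (hdown _ hty)
      · exact hmm _ _ (hneg _ (hdown _ htx)) hLf
      · intro u hu
        exact (pow_dvd_pow _ (by omega)).trans (hLmul _ _ 2 (hmm _ _ hLe hLf) u hu)
  have exact_mul : ∀ x y : R.ring, P1 x → P1 y → P1 (x * y) := by
    intro x y hx hy u hu
    obtain ⟨N, hN⟩ := pow_unbounded_of_one_lt
      |((x * y : R.ring) : MonoidAlgebra ℤ D).coeff (M.ι u)|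
      (show (1 : ℤ) < p by exact_mod_cast hp.out.one_lt)
    refine Int.eq_zero_of_abs_lt_dvd (main N x y hx hy u hu) ?_
    exact hN.trans_le (pow_le_pow_right₀ (by exact_mod_cast hp.out.one_lt.le) (Nat.le_succ N))
  -- the classes avoiding the singular elements form a subgroup
  let W : Set D := {g | ∀ u, p ∣ orderOf u → ¬ R.r g (M.ι u)}
  have hW : R.Closed W := fun a b hab ha u hu hb => ha u hu (R.equiv.trans hab hb)
  have hX : P1 ⟨ind W, R.inv_ind hW⟩ := fun u hu => by
    simp [ind, show M.ι u ∉ W from fun h => h u hu (R.equiv.refl _)]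
  have hmulW : ∀ a b, a ∈ W → b ∈ W → a * b ∈ W := by
    intro a b ha hb u hu hr
    have := R.mul_sets hW hW (a * b) (M.ι u) hr ⟨a, ha, b, hb, rfl⟩
    exact (mem_mul_iff W W _).2 this (exact_mul _ _ hX hX u hu)
  have h1W : (1 : D) ∈ W := by
    intro u hu h
    have := R.one _ h
    rw [map_eq_one_iff M.ι M.inj] at this
    subst this
    rw [orderOf_one, Nat.dvd_one] at hu
    exact hp.out.ne_one hu
  by_contra hno
  push Not at hno
  have hclos : ∀ a ∈ Subgroup.closure W, a ∈ W := by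
    intro a ha
    have ha' : a ∈ Submonoid.closure W := by
      rw [← Subgroup.closure_toSubmonoid_of_finite]; exact ha
    let SW : Submonoid D :=
      { carrier := W
        one_mem' := h1W
        mul_mem' := fun {a b} => hmulW a b }
    exact (Submonoid.closure_le (S := SW)).2 (le_refl W) ha'
  rcases R.prim (Subgroup.closure W) (fun a ha b hab =>
    Subgroup.subset_closure (hW a b hab (hclos a ha))) with h | h
  · exact hg (Subgroup.mem_bot.1 (h ▸ Subgroup.subset_closure (show g ∈ W from hno)))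
  · obtain ⟨z, hz⟩ := exists_prime_orderOf_dvd_card p hpm
    exact hclos (M.ι z) (h ▸ Subgroup.mem_top _) z (hz ▸ dvd_rfl) (R.equiv.refl _)

end SR

end Cfsg.Agent.Lib.DihedralBGroup12
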