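import Cfsg.Agent.Lib.DihedralBGroup12.Trivial

/-! The Schur ring of a primitive group with a regular subgroup `D` that is generalised dihedral. -/

namespace Cfsg.Agent.Lib.DihedralBGroup12

open Finset

set_option autoImplicit false
set_option linter.unusedSectionVars false

/-- The properties of the permutations induced by a point stabiliser on a regular subgroup. -/
structure IsStab {D : Type*} [Group D] (Φ : Set (Equiv.Perm D)) : Prop where
  one : ∀ σ ∈ Φ, σ 1 = 1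
  shift : ∀ σ ∈ Φ, ∀ s : D, ∃ τ ∈ Φ, ∀ u : D, σ (s * u) = σ s * τ u
  inv : ∀ σ ∈ Φ, σ.symm ∈ Φ
  id : Equiv.refl D ∈ Φ
  comp : ∀ σ ∈ Φ, ∀ τ ∈ Φ, σ.trans τ ∈ Φ
  prim : ∀ K : Subgroup D, (∀ σ ∈ Φ, ∀ c ∈ K, σ c ∈ K) → K = ⊥ ∨ K = ⊤

variable {C D : Type*} [CommGroup C] [Fintype C] [Group D] [Fintype D]

/-- The Schur ring given by a point stabiliser. -/
noncomputable def SR.ofStab (M : Dih C D) {Φ : Set (Equiv.Perm D)} (h : IsStab Φ) : SR D where
  r g k := ∃ σ ∈ Φ, σ g = k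
  equiv := ⟨fun g => ⟨_, h.id, rfl⟩,
    fun ⟨σ, hσ, e⟩ => ⟨σ.symm, h.inv σ hσ, by rw [← e, Equiv.symm_apply_apply]⟩,
    fun ⟨σ, hσ, e⟩ ⟨τ, hτ, e'⟩ => ⟨σ.trans τ, h.comp σ hσ τ hτ, by rw [Equiv.trans_apply, e, e']⟩⟩
  one := fun g ⟨σ, hσ, e⟩ => by rw [← e, h.one σ hσ]
  prim K hK := h.prim K fun σ hσ c hc => hK c hc _ ⟨σ, hσ, rfl⟩
  symm g := by
    classical
    have hinv : ∀ σ ∈ Φ, ∀ u : D, ∃ τ ∈ Φ, τ u⁻¹ = (σ u)⁻¹ := by
      intro σ hσ u
      obtain ⟨τ, hτ, hs⟩ := h.shift σ hσ u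
      refine ⟨τ, hτ, ?_⟩
      have := hs u⁻¹
      rw [mul_inv_cancel, h.one σ hσ] at this
      exact (inv_eq_of_mul_eq_one_right this.symm).symm
    by_cases hex : ∃ σ ∈ Φ, ∃ c, σ g = M.ι c * M.S
    · obtain ⟨σ, hσ, c, hc⟩ := hex
      obtain ⟨τ, hτ, ht⟩ := hinv σ hσ g
      rw [hc, M.inv_refl] at ht
      exact ⟨σ.trans τ.symm, h.comp σ hσ _ (h.inv τ hτ), by
        rw [Equiv.trans_apply, hc, ← ht, Equiv.symm_apply_apply]⟩
    · push Not at hex
      have hW : ∀ σ ∈ Φ, σ g ∈ M.ι.range := fun σ hσ => by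
        rcases M.cover (σ g) with ⟨c, hc⟩ | ⟨c, hc⟩
        · exact ⟨c, hc.symm⟩
        · exact absurd hc (hex σ hσ c)
      set W : Set D := {k | ∃ σ ∈ Φ, σ g = k}
      have key : ∀ c ∈ Subgroup.closure W, ∀ σ ∈ Φ, σ c ∈ Subgroup.closure W := by
        intro c hc
        have hc' : c ∈ Submonoid.closure W := by
          rw [← Subgroup.closure_toSubmonoid_of_finite]; exact hc
        clear hc
        induction hc' using Submonoid.closure_induction with
        | mem x hx =>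
          obtain ⟨τ, hτ, rfl⟩ := hx
          exact fun σ hσ => Subgroup.subset_closure ⟨τ.trans σ, h.comp τ hτ σ hσ, rfl⟩
        | one => exact fun σ hσ => by rw [h.one σ hσ]; exact one_mem _
        | mul x y _ _ hx hy =>
          intro σ hσ
          obtain ⟨τ, hτ, hs⟩ := h.shift σ hσ x
          rw [hs y]
          exact mul_mem (hx σ hσ) (hy τ hτ)
      have hg : g ∈ Subgroup.closure W := Subgroup.subset_closure ⟨_, h.id, rfl⟩
      have hg1 : g = 1 := by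
        rcases h.prim _ (fun σ hσ c hc => key c hc σ hσ) with hb | ht
        · exact Subgroup.mem_bot.1 (hb ▸ hg)
        · exfalso
          have hle : Subgroup.closure W ≤ M.ι.range :=
            (Subgroup.closure_le _).2 (by rintro _ ⟨σ, hσ, rfl⟩; exact hW σ hσ)
          obtain ⟨c, hc⟩ := hle (ht ▸ Subgroup.mem_top M.S : M.S ∈ Subgroup.closure W)
          exact M.not_mem c hc
      exact ⟨_, h.id, by simp [hg1]⟩
  mul x y hx hy := by
    rintro g _ ⟨σ, hσ, rfl⟩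
    rw [coeff_mul_eq, coeff_mul_eq, ← Equiv.sum_comp σ (fun s => x.coeff s * y.coeff (s⁻¹ * σ g))]
    refine Finset.sum_congr rfl fun s _ => ?_
    obtain ⟨τ, hτ, hs⟩ := h.shift σ hσ s
    have := hs (s⁻¹ * g)
    rw [mul_inv_cancel_left] at this
    rw [this, inv_mul_cancel_left, ← hy _ _ ⟨τ, hτ, rfl⟩, ← hx _ _ ⟨σ, hσ, rfl⟩]

end Cfsg.Agent.Lib.DihedralBGroup12
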