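import Cfsg.Agent.Lib.DihedralBGroup12.Split

/-! Rational subsets of a cyclic group whose cube in the group ring is a multiple of the subset plus
a multiple of the whole group. -/

namespace Cfsg.Agent.Lib.DihedralBGroup12

open Finset

set_option autoImplicit false
set_option linter.unusedSectionVars false

universe u

variable {C : Type u} [CommGroup C] [Fintype C]

theorem exists_pow_of_orderOf_eq [IsCyclic C] {a b : C} (h : orderOf a = orderOf b) {m : ℕ}
    (hm : m ≠ 0) (hdvd : orderOf a ∣ m) : ∃ k : ℕ, k.Coprime m ∧ a ^ k = b := by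
  classical
  have hpos := orderOf_pos a
  have hb : b ∈ Subgroup.zpowers a := by
    have hsub : (Finset.univ.filter fun x : C => x ∈ Subgroup.zpowers a) ⊆
        Finset.univ.filter fun x : C => x ^ orderOf a = 1 := by
      intro x hx
      simp only [Finset.mem_filter, Finset.mem_univ, true_and] at hx ⊢
      obtain ⟨j, rfl⟩ := hx
      rw [← zpow_natCast, zpow_comm, zpow_natCast, pow_orderOf_eq_one, one_zpow]
    have hcard : (Finset.univ.filter fun x : C => x ∈ Subgroup.zpowers a).card = orderOf a := by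
      rw [← Fintype.card_subtype, ← Fintype.card_zpowers]
    have he := Finset.eq_of_subset_of_card_le hsub
      ((IsCyclic.card_pow_eq_one_le hpos).trans hcard.ge)
    have : b ∈ Finset.univ.filter fun x : C => x ^ orderOf a = 1 := by
      simp [h, pow_orderOf_eq_one]
    rw [← he] at this
    exact (Finset.mem_filter.1 this).2
  obtain ⟨j, rfl⟩ := (mem_powers_iff_mem_zpowers.2 hb : b ∈ Submonoid.powers a)
  have hj : j.Coprime (orderOf a) := by
    have := orderOf_pow (n := j) a
    simp only at h
    rw [← h] at this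
    rcases (Nat.div_eq_self.1 this.symm) with h0 | h0
    · omega
    · exact Nat.Coprime.symm h0
  have : NeZero m := ⟨hm⟩
  obtain ⟨v, hv⟩ := ZMod.unitsMap_surjective hdvd (ZMod.unitOfCoprime j hj)
  refine ⟨(v : ZMod m).val, ZMod.val_coe_unit_coprime v, ?_⟩
  rw [pow_eq_pow_iff_modEq, ← ZMod.natCast_eq_natCast_iff]
  have h2 := congrArg Units.val hv
  rw [ZMod.unitsMap_val, ZMod.coe_unitOfCoprime] at h2
  rw [← h2, ← ZMod.natCast_val]

theorem orderOf_mul_eq {p : ℕ} (hp : p.Prime) {u z : C} (hu : p ^ 2 ∣ orderOf u) (hz : z ^ p = 1) :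
    orderOf (u * z) = orderOf u := by
  have e : (u * z) ^ p = u ^ p := by rw [mul_pow, hz, mul_one]
  have hg : (orderOf u).gcd p = p := Nat.gcd_eq_right (dvd_trans (dvd_pow_self p two_ne_zero) hu)
  have h1 : orderOf (u ^ p) = orderOf u / p := by rw [orderOf_pow' u hp.ne_zero, hg]
  have hdvd : p ∣ orderOf (u * z) := by
    refine dvd_trans ?_ (orderOf_pow_dvd (n := p) (x := u * z))
    rw [e, h1]
    obtain ⟨k, hk⟩ := hu
    exact ⟨k, by rw [hk, pow_two, mul_assoc, Nat.mul_div_cancel_left _ hp.pos]⟩
  have h2 : orderOf ((u * z) ^ p) = orderOf (u * z) / p := by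
    rw [orderOf_pow' _ hp.ne_zero, Nat.gcd_eq_right hdvd]
  rw [e, h1] at h2
  rw [← Nat.div_mul_cancel hdvd, ← h2, Nat.div_mul_cancel (dvd_trans (dvd_pow_self p two_ne_zero) hu)]

theorem sum_coeff_mul {G : Type*} [Group G] [Fintype G] (x y : MonoidAlgebra ℤ G) :
    ∑ g, (x * y).coeff g = (∑ g, x.coeff g) * ∑ g, y.coeff g := by
  simp only [coeff_mul_eq]
  rw [Finset.sum_comm, Finset.sum_mul]
  refine Finset.sum_congr rfl fun s _ => ?_
  rw [← Finset.mul_sum]
  congr 1
  exact Equiv.sum_comp (Equiv.mulLeft s⁻¹) fun g => y.coeff g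

theorem coeff_mul_inv {x y : MonoidAlgebra ℤ C} (hx : ∀ g, x.coeff g⁻¹ = x.coeff g)
    (hy : ∀ g, y.coeff g⁻¹ = y.coeff g) (g : C) : (x * y).coeff g⁻¹ = (x * y).coeff g := by
  rw [coeff_mul_eq, coeff_mul_eq]
  refine Fintype.sum_equiv (Equiv.inv C) _ _ fun s => ?_
  simp only [Equiv.inv_apply, inv_inv]
  rw [hx, ← hy (s * g), mul_inv]

open Classical in
/-- The indicator of a finite set. -/
noncomputable def indC (A : Finset C) : MonoidAlgebra ℤ C := ofFun fun g => if g ∈ A then 1 else 0

theorem lift_mul {Q : Subgroup C} [Fintype (C ⧸ Q)] (F G : C ⧸ Q → ℤ) (g : C) :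
    (ofFun (fun a : C => F a) * ofFun (fun a : C => G a)).coeff g =
      (Nat.card Q : ℤ) * (ofFun F * ofFun G).coeff (g : C ⧸ Q) := by
  classical
  have e : ∑ s : C, F s * G ((s : C ⧸ Q)⁻¹ * (g : C ⧸ Q)) =
      (Nat.card Q : ℤ) * ∑ t : C ⧸ Q, F t * G (t⁻¹ * (g : C ⧸ Q)) := by
    rw [Finset.mul_sum, ← Finset.sum_fiberwise univ (fun s : C => (s : C ⧸ Q))]
    refine Finset.sum_congr rfl fun t _ => ?_
    rw [Finset.sum_congr rfl (fun s hs => by rw [(Finset.mem_filter.1 hs).2]), Finset.sum_const,
      nsmul_eq_mul]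
    congr 1
    norm_cast
    obtain ⟨t, rfl⟩ := QuotientGroup.mk_surjective t
    rw [← Fintype.card_subtype, ← Nat.card_eq_fintype_card]
    refine Nat.card_congr ⟨fun s => ⟨t⁻¹ * s.1, QuotientGroup.eq.1 s.2.symm⟩,
      fun q => ⟨t * q.1, QuotientGroup.mk_mul_of_mem t q.2⟩, fun s => by simp, fun q => by simp⟩
  rw [coeff_mul_eq, coeff_mul_eq]
  simpa using e

theorem periodic [IsCyclic C] {A : Finset C}
    (hA : ∀ a b, orderOf a = orderOf b → a ∈ A → b ∈ A) {q e : ℕ} [hq : Fact q.Prime]
    (he : (Odd q ∧ e = 1) ∨ (q = 2 ∧ e = 2)) (hqm : q ∣ Fintype.card C) (c : ℤ)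
    (hc : ∀ g, (q : ℤ) ∣ ((indC A) ^ q ^ e).coeff g - c)
    {z : C} (hz : orderOf z = q) (u : C) : u * z ∈ A ↔ u ∈ A := by
  classical
  set n := q ^ e
  have hzq : z ^ q = 1 := hz ▸ pow_orderOf_eq_one z
  have hqn : q ∣ n := dvd_pow_self q (by omega)
  have hzn : z ^ n = 1 := by obtain ⟨k, hk⟩ := hqn; rw [hk, pow_mul, hzq, one_pow]
  have hz1 : z ≠ 1 := fun h => hq.out.one_lt.ne (by rw [← hz, h, orderOf_one])
  set f : C → ZMod q := fun a => if a ∈ A then 1 else 0 with hf
  have hfr : ∀ w, (c : ZMod q) = ∑ a ∈ univ.filter (fun a : C => a ^ n = w), f a := by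
    intro w
    have h1 := (ZMod.intCast_zmod_eq_zero_iff_dvd _ q).2 (hc w)
    rw [Int.cast_sub, sub_eq_zero, frob] at h1
    rw [← h1]
    refine Finset.sum_congr rfl fun a _ => ?_
    simp [indC, hf]
  obtain ⟨w0, hw0⟩ : ∃ w0 : C, ∀ a : C, a ^ n ≠ w0 := by
    by_contra h
    push Not at h
    have hinj : Function.Injective (fun a : C => a ^ n) := Finite.injective_iff_surjective.2 h
    exact hz1 (hinj (show z ^ n = (1 : C) ^ n by rw [hzn, one_pow]))
  have hc0 : (c : ZMod q) = 0 := by
    rw [hfr w0, Finset.filter_eq_empty_iff.2 fun a _ => hw0 a, Finset.sum_empty]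
  suffices h : f (u * z) = f u by
    by_cases h1 : u * z ∈ A <;> by_cases h2 : u ∈ A <;> simp [hf, h1, h2] at h ⊢
  have hfib := (hfr (u ^ n)).symm.trans hc0
  set S := univ.filter (fun a : C => a ^ n = u ^ n) with hS
  have huS : u ∈ S := by simp [hS]
  have huzS : u * z ∈ S := by simp [hS, mul_pow, hzn]
  have hne : u ≠ u * z := fun h => hz1 (by simpa using h.symm)
  rcases he with ⟨-, rfl⟩ | ⟨rfl, rfl⟩
  · -- the fibre has at most `q` points
    have hle : S.card ≤ q := by
      refine le_trans ?_ (IsCyclic.card_pow_eq_one_le (α := C) hq.out.pos)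
      refine Finset.card_le_card_of_injOn (fun a => u⁻¹ * a) ?_ (fun a _ b _ hab => mul_left_cancel hab)
      intro a ha
      simp only [hS, Finset.coe_filter, Set.mem_setOf_eq, n, pow_one] at ha
      simp [mul_pow, ha.2]
    have hcount : ∑ a ∈ S, f a = ((S.filter (· ∈ A)).card : ZMod q) := by
      simp only [hf, Finset.sum_boole]
    rw [hcount, ZMod.natCast_eq_zero_iff] at hfib
    rcases Nat.eq_zero_or_pos (S.filter (· ∈ A)).card with h0 | h0
    · have h' := Finset.filter_eq_empty_iff.1 (Finset.card_eq_zero.1 h0)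
      simp [hf, h' huS, h' huzS]
    · have h' : S.filter (· ∈ A) = S := Finset.eq_of_subset_of_card_le (Finset.filter_subset _ _)
        (hle.trans (Nat.le_of_dvd h0 hfib))
      simp [hf, (Finset.filter_eq_self.1 h') u huS, (Finset.filter_eq_self.1 h') _ huzS]
  · by_cases h4 : 4 ∣ orderOf u
    · have := orderOf_mul_eq Nat.prime_two (by simpa using h4) hzq
      simp only [hf]
      exact if_congr ⟨hA _ _ this, hA _ _ this.symm⟩ rfl rfl
    rw [← Finset.sum_sdiff (show {u, u * z} ⊆ S by
      simp [Finset.insert_subset_iff, huS, huzS]), Finset.sum_pair hne] at hfib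
    have hzz : ∀ a : C, a * z * z = a := fun a => by
      rw [mul_assoc, ← pow_two, hzq, mul_one]
    have hrest : ∑ a ∈ S \ {u, u * z}, f a = 0 := by
      refine Finset.sum_involution (fun a _ => a * z) ?_ ?_ ?_ (fun a _ => hzz a)
      · intro a ha
        simp only [hS, Finset.mem_sdiff, Finset.mem_filter, Finset.mem_univ, true_and,
          Finset.mem_insert, Finset.mem_singleton, not_or, n] at ha
        have h4a : 4 ∣ orderOf a := by
          set w := u⁻¹ * a with hw
          have hw4 : w ^ 4 = 1 := by rw [hw, mul_pow, inv_pow]; simp [show a ^ 4 = u ^ 4 from ha.1]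
          have hw2 : w ^ 2 ≠ 1 := by
            intro h2
            have hcard := IsCyclic.card_pow_eq_one_le (α := C) (n := 2) two_pos
            have h3 : ({1, z, w} : Finset C).card ≤ 2 := by
              refine le_trans (Finset.card_le_card fun x hx => ?_) hcard
              simp only [Finset.mem_insert, Finset.mem_singleton] at hx
              rcases hx with rfl | rfl | rfl <;> simp [hzq, h2]
            have hw1 : w ≠ 1 := fun h => ha.2.1 (inv_mul_eq_one.1 h).symm
            have hwz : w ≠ z := fun h => ha.2.2 (by rw [← h, hw, mul_inv_cancel_left])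
            rw [Finset.card_eq_three.2 ⟨1, z, w, hz1.symm, hw1.symm, hwz.symm, rfl⟩] at h3
            omega
          have hau : a = u * w := (mul_inv_cancel_left u a).symm
          set r := orderOf u
          have hru : u ^ r = 1 := pow_orderOf_eq_one u
          by_contra hna
          set k := if 2 ∣ r then r / 2 else r with hk
          have hkodd : Odd k := by
            rw [hk]
            split_ifs with h2
            · rw [Nat.odd_iff]; omega
            · rw [Nat.odd_iff]; omega
          have hk2 : u ^ (2 * k) = 1 := by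
            rw [hk]
            split_ifs with h2
            · rw [Nat.mul_div_cancel' h2, hru]
            · rw [mul_comm, pow_mul, hru, one_pow]
          have ha4k : a ^ (4 * k) = 1 := by
            rw [hau, mul_pow, show 4 * k = 2 * (2 * k) by ring, mul_comm 2 (2 * k), pow_mul, hk2,
              one_pow, one_mul, show 2 * k * 2 = 4 * k by ring, pow_mul, hw4, one_pow]
          have hord := orderOf_dvd_of_pow_eq_one ha4k
          have hdvd2k : orderOf a ∣ 2 * k := by
            by_cases h2a : 2 ∣ orderOf a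
            · obtain ⟨j, hj⟩ := h2a
              have hjodd : Nat.Coprime j 2 := Nat.coprime_two_right.2 (by
                rw [Nat.odd_iff]; omega)
              rw [hj] at hord ⊢
              rw [show 4 * k = 2 * (2 * k) by ring] at hord
              exact Nat.mul_dvd_mul_left 2
                (hjodd.dvd_of_dvd_mul_left (Nat.dvd_of_mul_dvd_mul_left two_pos hord))
            · have hcop : Nat.Coprime (orderOf a) 4 := by
                rw [show (4 : ℕ) = 2 ^ 2 by norm_num]
                exact Nat.Coprime.pow_right 2 (Nat.coprime_two_right.2 (by rw [Nat.odd_iff]; omega))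
              exact dvd_mul_of_dvd_right (hcop.dvd_of_dvd_mul_left hord) 2
          have := orderOf_dvd_iff_pow_eq_one.1 hdvd2k
          rw [hau, mul_pow, hk2, one_mul, pow_mul] at this
          obtain ⟨i, hi⟩ := hkodd
          rw [hi, pow_succ, pow_mul, ← pow_mul w 2 2, hw4, one_pow, one_mul] at this
          exact hw2 this
        have ho := orderOf_mul_eq Nat.prime_two (by simpa using h4a) hzq
        have : f (a * z) = f a := if_congr ⟨hA _ _ ho, hA _ _ ho.symm⟩ rfl rfl
        rw [this]
        exact CharTwo.add_self_eq_zero _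
      · intro a _ _ h
        exact hz1 (by simpa using h)
      · intro a ha
        simp only [hS, Finset.mem_sdiff, Finset.mem_filter, Finset.mem_univ, true_and,
          Finset.mem_insert, Finset.mem_singleton, not_or] at ha ⊢
        refine ⟨by rw [mul_pow, hzn, mul_one]; exact ha.1,
          fun h => ha.2.2 (by rw [← h, hzz]), fun h => ha.2.1 (mul_right_cancel h)⟩
    rw [hrest, zero_add, CharTwo.add_eq_zero] at hfib
    exact hfib.symm

theorem spectral (ρ : ℕ) : ∀ {C : Type u} [CommGroup C] [Fintype C] [IsCyclic C] (A : Finset C),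
    (∀ a b, orderOf a = orderOf b → a ∈ A → b ∈ A) → ∀ c : ℤ,
    (∀ g, (indC A ^ 3).coeff g = (ρ : ℤ) ^ 2 * (indC A).coeff g + c) → 1 ≤ ρ →
    A.card = 0 ∨ A.card = Fintype.card C ∨ A.card = ρ ∨ A.card + ρ = Fintype.card C := by
  induction ρ using Nat.strong_induction_on with
  | _ ρ ih =>
  intro C _ _ _ A hA c hcube hρ
  classical
  set m := Fintype.card C
  have hm : 0 < m := Fintype.card_pos
  set f := indC A with hfdef
  have hfA : ∀ g, f.coeff g = if g ∈ A then 1 else 0 := fun g => by simp [hfdef, indC]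
  have hfsum : ∑ g, f.coeff g = A.card := by simp [hfA]
  rcases Nat.lt_or_ge 1 ρ with hρ1 | hρ1
  · obtain ⟨q, hq, hqρ⟩ := Nat.exists_prime_and_dvd (show ρ ≠ 1 by omega)
    have : Fact q.Prime := ⟨hq⟩
    obtain ⟨ρ', rfl⟩ := hqρ
    have hcong : ∀ g, (q : ℤ) ∣ (f ^ 3).coeff g - c := fun g => by
      rw [hcube g, add_sub_cancel_right]
      exact ⟨(q : ℤ) * (ρ' : ℤ) ^ 2 * f.coeff g, by push_cast; ring⟩
    have hhigh : ∀ n, 3 ≤ n → ∃ c', ∀ g, (q : ℤ) ∣ (f ^ n).coeff g - c' := by
      intro n hn
      induction n, hn using Nat.le_induction with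
      | base => exact ⟨c, hcong⟩
      | succ n _ ih' =>
        obtain ⟨c', hc'⟩ := ih'
        refine ⟨c' * A.card, fun g => ?_⟩
        rw [pow_succ', coeff_mul_eq, ← hfsum, Finset.mul_sum, ← Finset.sum_sub_distrib]
        refine Finset.dvd_sum fun s _ => ?_
        rw [mul_comm c', ← mul_sub]
        exact Dvd.dvd.mul_left (hc' _) _
    by_cases hqm : q ∣ m
    · obtain ⟨z, hz⟩ := exists_prime_orderOf_dvd_card q hqm
      obtain ⟨e, he, he3⟩ : ∃ e, ((Odd q ∧ e = 1) ∨ (q = 2 ∧ e = 2)) ∧ 3 ≤ q ^ e := by
        rcases hq.eq_two_or_odd' with rfl | h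
        · exact ⟨2, Or.inr ⟨rfl, rfl⟩, by norm_num⟩
        · refine ⟨1, Or.inl ⟨h, rfl⟩, ?_⟩
          have := hq.two_le
          rw [Nat.odd_iff] at h
          rw [pow_one]
          omega
      obtain ⟨c', hc'⟩ := hhigh _ he3
      have hper := periodic hA he hqm c' hc' hz
      set Q := Subgroup.zpowers z
      have hperQ : ∀ u, ∀ y ∈ Q, (u * y ∈ A ↔ u ∈ A) := by
        intro u y hy
        obtain ⟨j, rfl⟩ := (mem_powers_iff_mem_zpowers.2 hy : y ∈ Submonoid.powers z)
        induction j with
        | zero => simp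
        | succ j ihj =>
          simp only [pow_succ, ← mul_assoc]
          rw [hper]
          exact ihj (mem_powers_iff_mem_zpowers.1 ⟨j, rfl⟩)
      have : Fintype (C ⧸ Q) := Fintype.ofFinite _
      let A' : Finset (C ⧸ Q) := A.image (fun a : C => (a : C ⧸ Q))
      have hmem : ∀ a : C, ((a : C ⧸ Q) ∈ A' ↔ a ∈ A) := fun a => by
        constructor
        · intro h
          obtain ⟨b, hb, hba⟩ := Finset.mem_image.1 h
          have := (hperQ b _ (QuotientGroup.eq.1 hba)).2 hb
          rwa [mul_inv_cancel_left] at this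
        · exact fun h => Finset.mem_image_of_mem _ h
      have hA' : ∀ a b, orderOf a = orderOf b → a ∈ A' → b ∈ A' := by
        intro a b hab ha
        obtain ⟨a, rfl⟩ := QuotientGroup.mk_surjective a
        obtain ⟨k, hk, rfl⟩ := exists_pow_of_orderOf_eq hab hm.ne'
          ((orderOf_map_dvd (QuotientGroup.mk' Q) a).trans (orderOf_dvd_card))
        rw [← QuotientGroup.mk_pow, hmem]
        refine hA a _ (Nat.Coprime.orderOf_pow ?_).symm ((hmem a).1 ha)
        exact (hk.coprime_dvd_right (orderOf_dvd_card)).symm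
      have hQ : Nat.card Q = q := by rw [Nat.card_zpowers, hz]
      set f' := indC A' with hf'
      have hlift : f = ofFun (fun a : C => f'.coeff (a : C ⧸ Q)) := by
        ext a
        simp [hfdef, hf', indC, hmem]
      have h3 : ∀ a : C, (f ^ 3).coeff a = (q : ℤ) ^ 2 * (f' ^ 3).coeff (a : C ⧸ Q) := by
        have hoF : ∀ x : MonoidAlgebra ℤ (C ⧸ Q), ofFun (fun t => x.coeff t) = x := fun x => by
          ext t; simp
        have h2 : f * f = ofFun (fun a : C => (q : ℤ) * (f' * f').coeff (a : C ⧸ Q)) := by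
          ext a
          rw [hlift, lift_mul, hQ, hoF, coeff_ofFun]
        intro a
        rw [pow_succ, pow_two, h2, hlift, lift_mul (fun t => (q : ℤ) * (f' * f').coeff t)
          (fun t => f'.coeff t), hQ, hoF, pow_succ f', pow_two f', coeff_mul_eq, coeff_mul_eq]
        simp only [coeff_ofFun, Finset.mul_sum]
        exact Finset.sum_congr rfl fun t _ => by ring
      have hf'g : ∀ a : C, f.coeff a = f'.coeff (a : C ⧸ Q) := fun a => by rw [hlift]; simp
      set c0 : ℤ := (f' ^ 3).coeff 1 - (ρ' : ℤ) ^ 2 * f'.coeff 1 with hc0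
      have hcc : c = (q : ℤ) ^ 2 * c0 := by
        have := hcube 1
        rw [h3, hf'g, QuotientGroup.mk_one] at this
        push_cast at this
        rw [hc0]; linear_combination -this
      have hρ'1 : 1 ≤ ρ' := by
        rcases Nat.eq_zero_or_pos ρ' with rfl | h
        · simp at hρ
        · exact h
      have hres := ih ρ' (by have := hq.two_le; nlinarith) A' hA' c0 (fun t => by
        obtain ⟨a, rfl⟩ := QuotientGroup.mk_surjective t
        have := hcube a
        rw [h3, hf'g, hcc] at this
        push_cast at this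
        exact mul_left_cancel₀ (pow_ne_zero 2 (Int.natCast_ne_zero.2 hq.ne_zero))
          (by linear_combination this)) hρ'1
      have hcardA : A.card = q * A'.card := by
        rw [mul_comm, ← hQ]
        have : A = Finset.univ.filter (fun a : C => (a : C ⧸ Q) ∈ A') := by ext a; simp [hmem]
        conv_lhs => rw [this]
        rw [Finset.card_eq_sum_card_fiberwise
          (s := Finset.univ.filter (fun a : C => (a : C ⧸ Q) ∈ A')) (f := fun a : C => (a : C ⧸ Q))
          (t := A') (fun a ha => (Finset.mem_filter.1 (Finset.mem_coe.1 ha)).2), Finset.sum_const_nat]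
        intro t ht
        obtain ⟨t, rfl⟩ := QuotientGroup.mk_surjective t
        rw [Finset.filter_filter, ← Fintype.card_subtype, ← Nat.card_eq_fintype_card]
        refine Nat.card_congr ⟨fun s => ⟨t⁻¹ * s.1, QuotientGroup.eq.1 s.2.2.symm⟩,
          fun y => ⟨t * y.1, by rw [QuotientGroup.mk_mul_of_mem t y.2]; exact ⟨ht, rfl⟩⟩,
          fun s => by simp, fun y => by simp⟩
      have hmQ : m = q * Fintype.card (C ⧸ Q) := by
        rw [← hQ, ← Nat.card_eq_fintype_card, mul_comm, ← Subgroup.card_eq_card_quotient_mul_card_subgroup,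
          Nat.card_eq_fintype_card]
      rcases hres with h | h | h | h
      · exact Or.inl (by rw [hcardA, h, mul_zero])
      · exact Or.inr (Or.inl (by rw [hcardA, h, hmQ]))
      · exact Or.inr (Or.inr (Or.inl (by rw [hcardA, h])))
      · exact Or.inr (Or.inr (Or.inr (by rw [hcardA, hmQ, ← h, mul_add])))
    · -- `q` prime to the order: a Frobenius power gives back `A`
      have hcop : q.Coprime m := hq.coprime_iff_not_dvd.2 hqm
      set e := 2 * m.totient
      have he3 : 3 ≤ q ^ e := by
        have h1 : 1 ≤ m.totient := Nat.totient_pos.2 hm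
        calc 3 ≤ 2 ^ 2 := by norm_num
          _ ≤ q ^ 2 := Nat.pow_le_pow_left hq.two_le 2
          _ ≤ q ^ e := Nat.pow_le_pow_right hq.pos (by omega)
      obtain ⟨c', hc'⟩ := hhigh _ he3
      have hpow : ∀ a : C, a ^ q ^ e = a := by
        intro a
        have h1 : q ^ e ≡ 1 [MOD m] := by
          have := (Nat.ModEq.pow_totient hcop).pow 2
          rwa [one_pow, ← pow_mul, mul_comm] at this
        conv_rhs => rw [← pow_one a]
        exact pow_eq_pow_iff_modEq.2 (h1.of_dvd orderOf_dvd_card)
      have hval : ∀ g, ((f.coeff g : ℤ) : ZMod q) = (c' : ZMod q) := by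
        intro g
        have h1 := (ZMod.intCast_zmod_eq_zero_iff_dvd _ q).2 (hc' g)
        rw [Int.cast_sub, sub_eq_zero, frob] at h1
        rw [← h1]
        refine (Finset.sum_eq_single_of_mem (f := fun x : C => ((f.coeff x : ℤ) : ZMod q)) g
          (Finset.mem_filter.2 ⟨Finset.mem_univ _, hpow g⟩ :
            g ∈ Finset.univ.filter fun a : C => a ^ q ^ e = g) ?_).symm
        intro b hb hbg
        exact absurd ((hpow b).symm.trans (Finset.mem_filter.1 hb).2) hbg
      by_cases hex : ∃ a, a ∈ A
      · obtain ⟨a, ha⟩ := hex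
        refine Or.inr (Or.inl ?_)
        rw [Finset.eq_univ_of_forall (s := A) fun g => ?_, Finset.card_univ]
        by_contra hg
        have := (hval g).trans (hval a).symm
        simp [hfA, hg, ha] at this
      · exact Or.inl (Finset.card_eq_zero.2 (Finset.eq_empty_iff_forall_notMem.2 (not_exists.1 hex)))
  · -- `ρ = 1`
    obtain rfl : ρ = 1 := by omega
    set a : ℤ := (A.card : ℤ) with ha
    have hfsym : ∀ g, f.coeff g⁻¹ = f.coeff g := fun g => by
      rw [hfA, hfA]
      exact if_congr ⟨hA _ _ (orderOf_inv g), hA _ _ (orderOf_inv g).symm⟩ rfl rfl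
    have hN1 : (f * f).coeff 1 = a := by
      rw [coeff_mul_eq]
      simp only [mul_one, hfsym]
      simp only [hfA, ← sq]
      simp [a, ite_pow]
    have hNsum : ∑ g, (f * f).coeff g = a ^ 2 := by rw [sum_coeff_mul, hfsum]; ring
    have haug : a ^ 3 = a + m * c := by
      have h1 : ∑ g, (f ^ 3).coeff g = a ^ 3 := by
        rw [pow_succ, pow_two, sum_coeff_mul, sum_coeff_mul, hfsum]; ring
      rw [← h1]
      simp only [hcube]
      simp [Finset.sum_add_distrib, hfsum, a, m]
    have hsq : ∑ g, (f * f).coeff g ^ 2 = a + c * a := by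
      have h1 : (f * f * (f * f)).coeff 1 = ∑ g, (f * f).coeff g ^ 2 := by
        rw [coeff_mul_eq]
        refine Finset.sum_congr rfl fun s _ => ?_
        rw [mul_one, coeff_mul_inv hfsym hfsym, sq]
      have h2 : (f * f * (f * f)).coeff 1 = (f ^ 3 * f).coeff 1 := by
        congr 2; ring
      rw [← h1, h2, coeff_mul_eq]
      simp only [mul_one, hfsym, hcube]
      simp [add_mul, Finset.sum_add_distrib, hfA, a, mul_comm c]
    have hcs : (a ^ 2 - a) ^ 2 ≤ ((m : ℤ) - 1) * (a + c * a - a ^ 2) := by
      have h1 := sq_sum_le_card_mul_sum_sq (s := univ.erase (1 : C)) (f := fun g => (f * f).coeff g)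
      rw [Finset.sum_erase_eq_sub (Finset.mem_univ _), Finset.sum_erase_eq_sub (Finset.mem_univ _),
        hNsum, hN1, hsq, Finset.card_erase_of_mem (Finset.mem_univ _), Finset.card_univ] at h1
      rw [Nat.cast_sub hm, Nat.cast_one] at h1
      exact h1
    have key : ((a * m - a ^ 2) ^ 2 - (a * m - a ^ 2) * ((m : ℤ) - 1)) ≤ 0 := by
      have hm0 : (0 : ℤ) ≤ m := by positivity
      have := mul_le_mul_of_nonneg_left hcs hm0
      have e : (m : ℤ) * (((m : ℤ) - 1) * (a + c * a - a ^ 2)) =
          ((m : ℤ) - 1) * (m * a + (a ^ 3 - a) * a - a ^ 2 * m) := by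
        linear_combination (-((m : ℤ) - 1) * a) * haug
      rw [e] at this
      linarith [this]
    have ham : A.card ≤ m := Finset.card_le_univ A
    by_contra hcon
    push Not at hcon
    obtain ⟨h0, h1, h2, h3⟩ := hcon
    have ha2 : (2 : ℤ) ≤ a := by simp only [a]; omega
    have ha3 : a + 2 ≤ (m : ℤ) := by simp only [a]; omega
    have hpos : 0 < a * m - a ^ 2 := by nlinarith
    have hbig : (m : ℤ) - 1 < a * m - a ^ 2 := by
      nlinarith [mul_pos (show (0 : ℤ) < a - 1 by linarith) (show (0 : ℤ) < m - a - 1 by linarith)]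
    nlinarith

end Cfsg.Agent.Lib.DihedralBGroup12
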