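import Cfsg.Agent.Lib.DihedralBGroup12.Lifting
import Cfsg.Agent.Lib.DihedralBGroup12.Spectral

/-! A rational primitive Schur ring over a dihedral group is trivial. -/

namespace Cfsg.Agent.Lib.DihedralBGroup12

open Finset

set_option autoImplicit false
set_option linter.unusedSectionVars false

/-- The only candidates in the cyclic group of order eight fail. -/
theorem eight : ∀ A ∈ (univ : Finset (ZMod 8)).powerset,
    (A.card = 2 ∨ A.card = 6) → (0 : ZMod 8) ∉ A → (∀ i ∈ A, 3 * i ∈ A ∧ 5 * i ∈ A ∧ 7 * i ∈ A) →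
      A = {2, 6} ∨ A = {1, 2, 3, 5, 6, 7} := by
  decide +kernel

theorem eight_two : ∀ B ∈ (univ : Finset (ZMod 8)).powersetCard 4,
    ¬ ∀ t : ZMod 8, (({2, 6} : Finset (ZMod 8)).filter fun a => t - a ∈ ({2, 6} : Finset (ZMod 8))).card +
      (B.filter fun b => b - t ∈ B).card = (if t = 0 then 4 else 0) + 2 := by
  decide +kernel

theorem eight_six : ∀ B ∈ (univ : Finset (ZMod 8)).powersetCard 4,
    ¬ ∀ t : ZMod 8, (({1, 2, 3, 5, 6, 7} : Finset (ZMod 8)).filter fun a =>
        t - a ∈ ({1, 2, 3, 5, 6, 7} : Finset (ZMod 8))).card +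
      (B.filter fun b => b - t ∈ B).card = (if t = 0 then 4 else 0) + 6 := by
  decide +kernel

namespace SR

variable {D : Type*} [Group D] [Fintype D] (R : SR D)
variable {C : Type*} [CommGroup C] [Fintype C] (M : Dih C D)

/-- Off the subgroup of order `p` the classes are periodic. -/
theorem periodic [IsCyclic C] [DecidableEq C] (hC : 2 ≤ Fintype.card C)
    (hrat : ∀ a b : C, orderOf a = orderOf b → R.r (M.ι a) (M.ι b))
    {p : ℕ} [hp : Fact p.Prime] (hpm : p ∣ Fintype.card C)
    (hchoice : Odd p ∨ ∃ s, Fintype.card C = 2 ^ s)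
    {z : C} (hz : orderOf z = p) (u : C) (hu : u ^ p ≠ 1) : R.r (M.ι u) (M.ι (u * z)) := by
  classical
  have hzp : z ^ p = 1 := hz ▸ pow_orderOf_eq_one z
  by_cases h2 : p ^ 2 ∣ orderOf u
  · exact hrat _ _ (orderOf_mul_eq hp.out h2 hzp).symm
  rcases Classical.em (Odd p) with hodd | heven
  swap
  · exfalso
    obtain rfl : p = 2 := hp.out.eq_two_or_odd'.resolve_right heven
    obtain ⟨s, hs⟩ := hchoice.resolve_left heven
    obtain ⟨i, -, hi⟩ := (Nat.dvd_prime_pow Nat.prime_two).1 (hs ▸ orderOf_dvd_card (x := u))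
    rcases Nat.lt_or_ge i 2 with h | h
    · apply hu
      refine orderOf_dvd_iff_pow_eq_one.1 ?_
      rw [hi]
      exact dvd_trans (pow_dvd_pow 2 (show i ≤ 1 by omega)) (by norm_num)
    · exact h2 (hi ▸ pow_dvd_pow 2 h)
  have key : ∀ v : C, v ≠ 1 → ¬ p ∣ orderOf v → R.r (M.ι v) (M.ι (v * z)) := by
    intro v hv hpv
    set q := p ^ (Fintype.card C).factorization p with hq
    set w := v ^ q with hw
    have hcop : (orderOf v).Coprime q := (hp.out.coprime_iff_not_dvd.2 hpv).symm.pow_right _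
    have hwo : orderOf w = orderOf v := hcop.orderOf_pow
    have hw1 : M.ι w ≠ 1 := by
      rw [Ne, map_eq_one_iff M.ι M.inj, ← orderOf_eq_one_iff, hwo, orderOf_eq_one_iff]
      exact hv
    obtain ⟨u1, hu1, hr⟩ := R.meets_singular M hC hrat hodd hpm (M.ι w) hw1
    set x := ind {g | R.r (M.ι v) g}
    have hx : R.Inv x := R.inv_ind (R.closed_cls _)
    have hxc : ∀ a : C, x.coeff (M.ι a) = if R.r (M.ι v) (M.ι a) then 1 else 0 := fun a => by
      simp [x, ind]
    have h0 : (((x ^ q).coeff (M.ι w) : ℤ) : ZMod p) = 0 := by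
      have := (Subring.pow_mem R.ring (show x ∈ R.ring from hx) q) _ _ hr
      rw [this, hq, R.pow_prime_pow M hodd hx]
      refine Finset.sum_eq_zero fun a ha => ?_
      exfalso
      have h1 : (a ^ q) ^ (Fintype.card C / q) = 1 := by
        rw [← pow_mul, hq, Nat.mul_div_cancel' (Nat.ordProj_dvd _ p), pow_card_eq_one]
      rw [(Finset.mem_filter.1 ha).2] at h1
      exact Nat.not_dvd_ordCompl hp.out Fintype.card_ne_zero
        (hu1.trans (orderOf_dvd_of_pow_eq_one h1))
    rw [hq, R.pow_prime_pow M hodd hx, ← hq] at h0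
    set Y := univ.filter fun y : C => y ^ q = 1
    have hbij : ∑ a ∈ univ.filter (fun a : C => a ^ q = w), ((x.coeff (M.ι a) : ℤ) : ZMod p) =
        ∑ y ∈ Y, ((x.coeff (M.ι (v * y)) : ℤ) : ZMod p) := by
      refine (Finset.sum_bij' (fun y _ => v * y) (fun a _ => v⁻¹ * a) ?_ ?_ ?_ ?_ ?_).symm
      · intro y hy; simp [Y] at hy; simp [mul_pow, hy, hw]
      · intro a ha; simp at ha; simp [Y, mul_pow, ha, hw]
      · intro y _; exact inv_mul_cancel_left v y
      · intro a _; exact mul_inv_cancel_left v a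
      · intro y _; rfl
    rw [hbij] at h0
    have hdiv : ∀ y ∈ Y, orderOf y ∈ q.divisors := fun y hy =>
      Nat.mem_divisors.2 ⟨orderOf_dvd_of_pow_eq_one (Finset.mem_filter.1 hy).2,
        (pow_pos hp.out.pos _).ne'⟩
    rw [← Finset.sum_fiberwise_of_maps_to hdiv] at h0
    have hfib : ∀ d ∈ q.divisors, ∀ y : C, orderOf y = d →
        x.coeff (M.ι (v * y)) = if d = 1 then 1 else
          if d = p then x.coeff (M.ι (v * z)) else x.coeff (M.ι (v * y)) := by
      intro d _ y hy
      split_ifs with h1 h2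
      · subst h1
        rw [orderOf_eq_one_iff.1 hy, mul_one, hxc, if_pos (R.equiv.refl _)]
      · refine hx _ _ (hrat _ _ ?_)
        rw [(Commute.all v y).orderOf_mul_eq_mul_orderOf_of_coprime
            (by rw [hy, h2]; exact (hp.out.coprime_iff_not_dvd.2 hpv).symm),
          (Commute.all v z).orderOf_mul_eq_mul_orderOf_of_coprime
            (by rw [hz]; exact (hp.out.coprime_iff_not_dvd.2 hpv).symm), hy, hz, h2]
      · rfl
    have hterm : ∀ d ∈ q.divisors, ∑ y ∈ Y.filter (fun y => orderOf y = d),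
        ((x.coeff (M.ι (v * y)) : ℤ) : ZMod p) =
          if d = 1 then 1 else if d = p then -((x.coeff (M.ι (v * z)) : ℤ) : ZMod p) else 0 := by
      intro d hd
      have hdq := (Nat.mem_divisors.1 hd).1
      have hY : Y.filter (fun y => orderOf y = d) = univ.filter fun y : C => orderOf y = d := by
        ext y
        simp only [Y, Finset.mem_filter, Finset.mem_univ, true_and, and_iff_right_iff_imp]
        intro hy
        exact orderOf_dvd_iff_pow_eq_one.1 (hy ▸ hdq)
      have hcard : (univ.filter fun y : C => orderOf y = d).card = d.totient :=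
        IsCyclic.card_orderOf_eq_totient (hdq.trans (Nat.ordProj_dvd _ p))
      rw [hY]
      obtain ⟨i, -, rfl⟩ := (Nat.dvd_prime_pow hp.out).1 hdq
      rcases Nat.lt_or_ge i 2 with hi | hi
      · have hcst : ∀ y ∈ univ.filter (fun y : C => orderOf y = p ^ i),
            ((x.coeff (M.ι (v * y)) : ℤ) : ZMod p) =
              if i = 0 then 1 else ((x.coeff (M.ι (v * z)) : ℤ) : ZMod p) := by
          intro y hy
          rw [hfib _ hd y (Finset.mem_filter.1 hy).2]
          interval_cases i
          · simp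
          · simp [hp.out.ne_one]
        rw [Finset.sum_congr rfl hcst, Finset.sum_const, hcard, nsmul_eq_mul]
        interval_cases i
        · simp
        · rw [pow_one, Nat.totient_prime hp.out, Nat.cast_sub hp.out.one_le, if_neg hp.out.ne_one,
            if_pos rfl]
          simp
      · have hne1 : p ^ i ≠ 1 := (Nat.one_lt_pow (by omega) hp.out.one_lt).ne'
        have hnep : p ^ i ≠ p := by
          intro h
          have := Nat.pow_right_injective hp.out.two_le (h.trans (pow_one p).symm)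
          omega
        rw [if_neg hne1, if_neg hnep]
        by_cases hex : ∃ y0 : C, orderOf y0 = p ^ i
        · obtain ⟨y0, hy0⟩ := hex
          have ho : ∀ y : C, orderOf y = p ^ i → orderOf (v * y) = orderOf v * p ^ i := fun y hy => by
            rw [(Commute.all v y).orderOf_mul_eq_mul_orderOf_of_coprime
              (by rw [hy]; exact (hp.out.coprime_iff_not_dvd.2 hpv).symm.pow_right _), hy]
          rw [Finset.sum_congr rfl (g := fun _ => ((x.coeff (M.ι (v * y0)) : ℤ) : ZMod p)) fun y hy => by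
              rw [hx _ _ (hrat (v * y) (v * y0)
                ((ho y (Finset.mem_filter.1 hy).2).trans (ho y0 hy0).symm))],
            Finset.sum_const, hcard, nsmul_eq_mul,
            Nat.totient_prime_pow hp.out (by omega), Nat.cast_mul, Nat.cast_pow, ZMod.natCast_self,
            zero_pow (by omega), zero_mul, zero_mul]
        · exact Finset.sum_eq_zero fun y hy => absurd ⟨y, (Finset.mem_filter.1 hy).2⟩ hex
    rw [Finset.sum_congr rfl hterm] at h0
    have h1q : 1 ∈ q.divisors := Nat.mem_divisors.2 ⟨one_dvd _, (pow_pos hp.out.pos _).ne'⟩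
    have hpq : p ∈ q.divisors := by
      refine Nat.mem_divisors.2 ⟨dvd_pow_self p ?_, (pow_pos hp.out.pos _).ne'⟩
      exact (hp.out.factorization_pos_of_dvd Fintype.card_ne_zero hpm).ne'
    rw [Finset.sum_eq_add 1 p hp.out.ne_one.symm (fun d _ hd => by rw [if_neg hd.1, if_neg hd.2])
      (fun h => absurd h1q h) (fun h => absurd hpq h), if_pos rfl, if_neg hp.out.ne_one, if_pos rfl,
      hxc] at h0
    by_contra hnr
    rw [if_neg hnr] at h0
    simp at h0
  -- the general element
  by_cases hpu : p ∣ orderOf u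
  swap
  · refine key u (fun h => hu (by rw [h, one_pow])) hpu
  have hn : (orderOf u).gcd p = p := Nat.gcd_eq_right hpu
  set v := u ^ p with hv
  have hov : orderOf v = orderOf u / p := by rw [hv, orderOf_pow' u hp.out.ne_zero, hn]
  have hou : orderOf u = orderOf v * p := by rw [hov, Nat.div_mul_cancel hpu]
  have hpv : ¬ p ∣ orderOf v := fun h => h2 (by rw [hou, pow_two]; exact Nat.mul_dvd_mul_right h p)
  have hcp : (orderOf v).Coprime p := (hp.out.coprime_iff_not_dvd.2 hpv).symm
  obtain ⟨k, hk⟩ := exists_pow_eq_self_of_coprime (x := v) hcp.symm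
  set u0 := v ^ k with hu0
  have hu0p : u0 ^ p = v := by rw [hu0, ← pow_mul, mul_comm, pow_mul, hk]
  have hou0 : orderOf u0 = orderOf v := by
    refine Nat.dvd_antisymm (orderOf_pow_dvd k) ?_
    conv_lhs => rw [← hu0p]
    exact orderOf_pow_dvd p
  have h1 : R.r (M.ι u0) (M.ι u) := by
    refine R.equiv.trans (key u0 (fun h => hu ?_) (hou0 ▸ hpv)) (hrat _ _ ?_)
    · show v = 1
      rw [← orderOf_eq_one_iff, ← hou0, orderOf_eq_one_iff]; exact h
    · rw [(Commute.all u0 z).orderOf_mul_eq_mul_orderOf_of_coprime (by rw [hou0, hz]; exact hcp),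
        hou0, hz, hou]
  -- `u * z` is `u0` or has the order of `u`
  by_cases h3 : p ∣ orderOf (u * z)
  · refine hrat _ _ ?_
    have e1 : (u * z) ^ p = v := by rw [mul_pow, hzp, mul_one]
    have e2 : orderOf v = orderOf (u * z) / p := by
      rw [← e1, orderOf_pow' _ hp.out.ne_zero, Nat.gcd_eq_right h3]
    rw [hou, e2, Nat.div_mul_cancel h3]
  · refine R.equiv.trans (R.equiv.symm h1) (hrat _ _ ?_)
    have e1 : (u * z) ^ p = v := by rw [mul_pow, hzp, mul_one]
    rw [hou0, ← e1, Nat.Coprime.orderOf_pow (hp.out.coprime_iff_not_dvd.2 h3).symm]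

/-- A rational ring is trivial. -/
theorem rational_trivial [IsCyclic C] [DecidableEq C] (hC : 2 ≤ Fintype.card C)
    (hrat : ∀ a b : C, orderOf a = orderOf b → R.r (M.ι a) (M.ι b)) :
    ∀ g h : D, g ≠ 1 → h ≠ 1 → R.r g h := by
  classical
  set m := Fintype.card C with hm
  obtain ⟨p, hp, hpm, hchoice⟩ :
      ∃ p, p.Prime ∧ p ∣ m ∧ (Odd p ∨ ∃ s, m = 2 ^ s) := by
    by_cases h : ∃ p, p.Prime ∧ p ∣ m ∧ Odd p
    · obtain ⟨p, h1, h2, h3⟩ := h; exact ⟨p, h1, h2, Or.inl h3⟩
    · have hs := Nat.eq_prime_pow_of_unique_prime_dvd (n := m) (p := 2) (by omega) (fun {d} hd hdd => by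
        rcases hd.eq_two_or_odd' with h' | h'
        · exact h'
        · exact absurd ⟨d, hd, hdd, h'⟩ h)
      refine ⟨2, Nat.prime_two, ?_, Or.inr ⟨_, hs⟩⟩
      rw [hs]
      refine dvd_pow_self 2 fun h0 => ?_
      rw [h0, pow_zero] at hs
      omega
  have := Fact.mk hp
  obtain ⟨z, hz⟩ := exists_prime_orderOf_dvd_card p hpm
  have hz1 : z ≠ 1 := fun h => hp.one_lt.ne (by rw [← hz, h, orderOf_one])
  have hιz : M.ι z ≠ 1 := fun h => hz1 ((map_eq_one_iff M.ι M.inj).1 h)
  suffices hall : ∀ g, g ≠ 1 → R.r (M.ι z) g by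
    exact fun g h hg hh => R.equiv.trans (R.equiv.symm (hall g hg)) (hall h hh)
  by_contra hcon
  push Not at hcon
  obtain ⟨g, hg1, hgz⟩ := hcon
  -- periodicity of invariant elements on `C`
  have hper : ∀ v, R.Inv v → v.coeff 1 = v.coeff (M.ι z) →
      ∀ c, v.coeff (M.ι (c * z)) = v.coeff (M.ι c) := by
    intro v hv h1 c
    by_cases hc : c ^ p = 1
    · have hP : ∀ d : C, d ^ p = 1 → v.coeff (M.ι d) = v.coeff (M.ι z) := fun d hd => by
        by_cases hd1 : d = 1
        · rw [hd1, map_one, h1]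
        · exact hv _ _ (hrat _ _ ((orderOf_eq_prime hd hd1).trans hz.symm))
      rw [hP c hc, hP (c * z) (by rw [mul_pow, hc, ← hz, pow_orderOf_eq_one, one_mul])]
    · exact (hv _ _ (R.periodic M hC hrat hpm hchoice hz c hc)).symm
  let Per : MonoidAlgebra ℤ C → Prop := fun f => ∀ c, f.coeff (c * z) = f.coeff c
  have hpmul : ∀ f f', Per f → Per (f' * f) := by
    intro f f' hf c
    rw [coeff_mul_eq, coeff_mul_eq]
    exact Finset.sum_congr rfl fun s _ => by rw [← mul_assoc, hf]
  have hcon : ∀ x y, R.Inv x → R.Inv y → x.coeff 1 = 0 → x.coeff (M.ι z) = 0 → y.coeff 1 = 0 →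
      y.coeff (M.ι z) = 0 → ∀ t, t ≠ 1 → (x * y).coeff t = (x * y).coeff (M.ι z) := by
    intro x y hx hy hx1 hxz hy1 hyz t ht
    set c1 := (x * y).coeff 1
    set c0 := (x * y).coeff (M.ι z)
    set v := ofFun fun g => (x * y).coeff g - if g = 1 then c1 - c0 else 0 with hv
    have hvinv : R.Inv v := by
      intro a b hab
      rw [hv, coeff_ofFun, coeff_ofFun, R.mul x y hx hy a b hab]
      congr 1
      refine if_congr ⟨fun h => ?_, fun h => ?_⟩ rfl rfl
      · exact R.one b (h ▸ hab)
      · exact R.one a (h ▸ R.equiv.symm hab)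
    have hv1 : v.coeff 1 = c0 := by simp [hv, c1]
    have hvz : v.coeff (M.ι z) = c0 := by simp [hv, hιz, c0]
    have hxP : Per (M.cPart x) := fun c => hper x hx (by rw [hx1, hxz]) c
    have hyP : Per (M.cPart y) := fun c => hper y hy (by rw [hy1, hyz]) c
    have hS : Per (M.sPart (x * y)) := by
      have h1 : Per (M.cPart x * M.sPart y) := mul_comm (M.sPart y) _ ▸ hpmul _ _ hxP
      have h2 : Per (M.sPart x * Dih.star (M.cPart y)) := by
        rw [R.star_cPart M hy]; exact hpmul _ _ hyP
      intro c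
      rw [M.sPart_mul, MonoidAlgebra.coeff_add, Finsupp.add_apply, Finsupp.add_apply, h1 c, h2 c]
    have hSne : ∀ c, M.ι c * M.S ≠ 1 := fun c h => M.not_mem c⁻¹ (by
      rw [map_inv]; exact inv_eq_of_mul_eq_one_right h)
    have hstab : ∀ b, v.coeff (M.ι z * b) = v.coeff b := by
      intro b
      rcases M.cover b with ⟨c, rfl⟩ | ⟨c, rfl⟩
      · rw [← map_mul, mul_comm]
        exact hper v hvinv (by rw [hv1, hvz]) c
      · rw [← mul_assoc, ← map_mul, mul_comm z c]
        have e : ∀ d, v.coeff (M.ι d * M.S) = (M.sPart (x * y)).coeff d := fun d => by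
          simp [hv, hSne d]
        rw [e, e, hS c]
    have := R.stab hvinv hιz hstab t
    rw [hv1] at this
    simpa [hv, ht] using this
  set x := ind {h | R.r g h} with hxdef
  have hx : R.Inv x := R.inv_ind (R.closed_cls g)
  have hxcoe : ∀ h, x.coeff h = if R.r g h then 1 else 0 := fun h => by simp [x, ind]
  have hx1 : x.coeff 1 = 0 := by
    rw [hxcoe, if_neg fun h => hg1 (R.one g (R.equiv.symm h))]
  have hxz : x.coeff (M.ι z) = 0 := by
    rw [hxcoe, if_neg fun h => hgz (R.equiv.symm h)]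
  have hnn : ∀ h, 0 ≤ x.coeff h := fun h => by rw [hxcoe]; split_ifs <;> norm_num
  -- there is no third nontrivial class
  have hthree : ∀ h, h ≠ 1 → R.r g h ∨ R.r (M.ι z) h := by
    intro h hh
    by_contra hno
    push Not at hno
    set y := ind {k | R.r h k}
    have hy : R.Inv y := R.inv_ind (R.closed_cls h)
    have hycoe : ∀ k, y.coeff k = if R.r h k then 1 else 0 := fun k => by simp [y, ind]
    have hy1 : y.coeff 1 = 0 := by
      rw [hycoe, if_neg fun h' => hh (R.one h (R.equiv.symm h'))]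
    have hyz : y.coeff (M.ι z) = 0 := by
      rw [hycoe, if_neg fun h' => hno.2 (R.equiv.symm h')]
    set c0 := (x * y).coeff (M.ι z)
    set μ := (x * x).coeff (M.ι z)
    set r := (x * x).coeff 1 - μ
    have hxy1 : (x * y).coeff 1 = 0 := by
      rw [coeff_mul_eq]
      refine Finset.sum_eq_zero fun s _ => ?_
      rw [mul_one, R.coeff_inv_eq hy, hxcoe, hycoe]
      by_cases h1 : R.r g s
      · rw [if_neg fun h2 => hno.1 (R.equiv.trans h1 (R.equiv.symm h2)), mul_zero]
      · rw [if_neg h1, zero_mul]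
    have hxx : ∀ t, (x * x).coeff t = r * (1 : MonoidAlgebra ℤ D).coeff t + μ := by
      intro t
      by_cases ht : t = 1
      · subst ht; simp [r]
      · rw [hcon x x hx hx hx1 hxz hx1 hxz t ht]
        simp [MonoidAlgebra.one_def, Ne.symm ht, μ]
    have hxy : ∀ t, (x * y).coeff t = c0 - c0 * (1 : MonoidAlgebra ℤ D).coeff t := by
      intro t
      by_cases ht : t = 1
      · subst ht; simp [hxy1]
      · rw [hcon x y hx hy hx1 hxz hy1 hyz t ht]
        simp [MonoidAlgebra.one_def, Ne.symm ht, c0]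
    have hone : ∀ (f : MonoidAlgebra ℤ D) (t : D),
        ∑ s, (1 : MonoidAlgebra ℤ D).coeff s * f.coeff (s⁻¹ * t) = f.coeff t := fun f t => by
      rw [← coeff_mul_eq, one_mul]
    set ky := ∑ s, y.coeff s
    set kx := ∑ s, x.coeff s
    have hident : ∀ t, r * y.coeff t + μ * ky = c0 * kx - c0 * x.coeff t := by
      intro t
      have h1 : (x * x * y).coeff t = r * y.coeff t + μ * ky := by
        rw [coeff_mul_eq]
        simp only [hxx, add_mul, mul_assoc, Finset.sum_add_distrib, ← Finset.mul_sum, hone]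
        rw [Fintype.sum_equiv ((Equiv.inv D).trans (Equiv.mulRight t))
          (fun s => y.coeff (s⁻¹ * t)) (fun s => y.coeff s) (fun s => rfl)]
      have h2 : (x * y * x).coeff t = c0 * kx - c0 * x.coeff t := by
        rw [coeff_mul_eq]
        simp only [hxy, sub_mul, mul_assoc, Finset.sum_sub_distrib, ← Finset.mul_sum, hone]
        rw [Fintype.sum_equiv ((Equiv.inv D).trans (Equiv.mulRight t))
          (fun s => x.coeff (s⁻¹ * t)) (fun s => x.coeff s) (fun s => rfl)]
      rw [← h1, ← h2, mul_assoc x x y, mul_assoc x y x, R.comm hy hx]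
    have e1 := hident (M.ι z)
    have e2 := hident g
    rw [hyz, hxz] at e1
    rw [hycoe g, if_neg (fun h' => hno.1 (R.equiv.symm h')), hxcoe g, if_pos (R.equiv.refl g)] at e2
    have hc0 : c0 = 0 := by linarith
    have hprod : (x * y).coeff (g * h) ≠ 0 :=
      (mem_mul_iff _ _ _).2 ⟨g, R.equiv.refl g, h, R.equiv.refl h, rfl⟩
    by_cases hgh : g * h = 1
    · exact hprod (hgh ▸ hxy1)
    · rw [hcon x y hx hy hx1 hxz hy1 hyz _ hgh] at hprod
      exact hprod hc0
  -- the two parts of the class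
  set A := univ.filter fun c : C => R.r g (M.ι c) with hAdef
  set B := univ.filter fun c : C => R.r g (M.ι c * M.S) with hBdef
  have hAc : M.cPart x = indC A := by ext c; simp [indC, hAdef, hxcoe]
  have hBc : M.sPart x = indC B := by ext c; simp [indC, hBdef, hxcoe]
  set a : ℤ := (A.card : ℤ) with ha
  set b : ℤ := (B.card : ℤ) with hb
  have hsA : ∑ c, (M.cPart x).coeff c = a := by rw [hAc]; simp [indC, ha]
  have hsB : ∑ c, (M.sPart x).coeff c = b := by rw [hBc]; simp [indC, hb]
  have hsBs : ∑ c, (Dih.star (M.sPart x)).coeff c = b := by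
    rw [← hsB]; exact Fintype.sum_equiv (Equiv.inv C) _ _ fun c => by simp [Dih.star]
  set μ := (x * x).coeff (M.ι z)
  set r := (x * x).coeff 1 - μ
  have hconst := hcon x x hx hx hx1 hxz hx1 hxz
  have hcc : ∀ t, (M.cPart x * M.cPart x + M.sPart x * Dih.star (M.sPart x)).coeff t =
      (if t = 1 then r else 0) + μ := by
    intro t
    rw [← M.cPart_mul, Dih.cPart_coeff]
    by_cases ht : t = 1
    · subst ht; simp [r]
    · rw [if_neg ht, zero_add, hconst _ fun h => ht ((map_eq_one_iff M.ι M.inj).1 h)]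
  have hss : ∀ t, (M.cPart x * M.sPart x).coeff t + (M.cPart x * M.sPart x).coeff t = μ := by
    intro t
    have h1 : (M.sPart (x * x)).coeff t = μ := by
      rw [Dih.sPart_coeff, hconst _ fun h => M.not_mem t⁻¹ (by
        rw [map_inv]; exact inv_eq_of_mul_eq_one_right h)]
    rw [M.sPart_mul, R.star_cPart M hx, mul_comm (M.sPart x), MonoidAlgebra.coeff_add,
      Finsupp.add_apply] at h1
    exact h1
  -- sums
  have hab1 : a * a + b * b = r + m * μ := by
    have h1 : ∑ t, ((M.cPart x * M.cPart x).coeff t + (M.sPart x * Dih.star (M.sPart x)).coeff t) =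
        ∑ t : C, ((if t = 1 then r else 0) + μ) :=
      Finset.sum_congr rfl fun t _ => by rw [← hcc t, MonoidAlgebra.coeff_add, Finsupp.add_apply]
    simp only [Finset.sum_add_distrib, sum_coeff_mul, hsA, hsB, hsBs] at h1
    rw [h1]
    simp [hm]
  have hab2 : a * b + a * b = m * μ := by
    have h1 := Finset.sum_congr rfl (fun t (_ : t ∈ (univ : Finset C)) => hss t)
    simp only [Finset.sum_add_distrib, sum_coeff_mul, hsA, hsB] at h1
    rw [h1]
    simp [hm]
  have hk : a + b = r + μ := by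
    have h1 : (x * x).coeff 1 = ∑ s, x.coeff s := by
      rw [coeff_mul_eq]
      refine Finset.sum_congr rfl fun s _ => ?_
      rw [mul_one, R.coeff_inv_eq hx, hxcoe]
      split_ifs <;> norm_num
    have h2 : ∑ s, x.coeff s = a + b := by
      rw [M.sum_split, ← hsA, ← hsB]; rfl
    linarith [show (x * x).coeff 1 = r + μ by simp [r]]
  -- bounds
  have ha1 : 1 ≤ A.card := Finset.card_pos.2 (by
    obtain ⟨c, hc⟩ := R.meets M hC g
    exact ⟨c, by simp [hAdef, hc]⟩)
  have hrange : (M.ι.range : Subgroup D) ≠ ⊤ := fun h => by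
    obtain ⟨c, hc⟩ := (h ▸ Subgroup.mem_top M.S : M.S ∈ M.ι.range)
    exact M.not_mem c hc
  have hrefl : ∀ k, k ≠ 1 → ∃ c, R.r k (M.ι c * M.S) := by
    intro k hk
    by_contra hno
    push Not at hno
    refine hk (R.gen (R.closed_cls k) hrange (fun u hu => ?_) (R.equiv.refl k))
    rcases M.cover u with ⟨c, rfl⟩ | ⟨c, rfl⟩
    · exact ⟨c, rfl⟩
    · exact absurd hu (hno c)
  have hb1 : 1 ≤ B.card := Finset.card_pos.2 (by
    obtain ⟨c, hc⟩ := hrefl g hg1
    exact ⟨c, by simp [hBdef, hc]⟩)
  have hb2 : B.card < m := by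
    obtain ⟨c, hc⟩ := hrefl (M.ι z) hιz
    refine Finset.card_lt_univ_of_notMem (x := c) ?_
    simp only [hBdef, Finset.mem_filter, Finset.mem_univ, true_and]
    exact fun h => hgz (R.equiv.trans hc (R.equiv.symm h))
  have ha2 : A.card < m := by
    refine Finset.card_lt_univ_of_notMem (x := (1 : C)) ?_
    simp only [hAdef, Finset.mem_filter, Finset.mem_univ, true_and, map_one]
    exact fun h => hg1 (R.one g (R.equiv.symm h))
  have hr : r = (a - b) ^ 2 := by linear_combination hab2 - hab1
  have hcube : ∀ t, (indC A ^ 3).coeff t = r * (indC A).coeff t +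
      ((indC A ^ 3).coeff 1 - r * (indC A).coeff 1) := by
    have h2 : ∀ t, 2 * (indC A ^ 3).coeff t = 2 * r * (indC A).coeff t + (2 * μ * a - μ * b) := by
      intro t
      have e : M.cPart x ^ 3 + M.cPart x ^ 3 =
          M.cPart x * (M.cPart x * M.cPart x + M.sPart x * Dih.star (M.sPart x)) +
          M.cPart x * (M.cPart x * M.cPart x + M.sPart x * Dih.star (M.sPart x)) -
          (M.cPart x * M.sPart x + M.cPart x * M.sPart x) * Dih.star (M.sPart x) := by ring
      have e2 := congrArg (fun f : MonoidAlgebra ℤ C => f.coeff t) e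
      simp only [MonoidAlgebra.coeff_add, MonoidAlgebra.coeff_sub, Finsupp.add_apply,
        Finsupp.sub_apply] at e2
      have f1 : (M.cPart x * (M.cPart x * M.cPart x + M.sPart x * Dih.star (M.sPart x))).coeff t =
          r * (M.cPart x).coeff t + μ * a := by
        rw [coeff_mul_eq]
        simp only [hcc, inv_mul_eq_one, mul_add, Finset.sum_add_distrib, mul_ite, mul_zero,
          Finset.sum_ite_eq', Finset.mem_univ, if_true]
        rw [← Finset.sum_mul, hsA]
        ring
      have f2 : ((M.cPart x * M.sPart x + M.cPart x * M.sPart x) * Dih.star (M.sPart x)).coeff t =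
          μ * b := by
        rw [coeff_mul_eq]
        simp only [MonoidAlgebra.coeff_add, Finsupp.add_apply, hss]
        rw [← Finset.mul_sum, ← hsBs]
        congr 1
        exact Fintype.sum_equiv ((Equiv.inv C).trans (Equiv.mulRight t)) _ _ fun s => rfl
      rw [f1, f2, hAc] at e2
      linarith [e2]
    intro t
    have h3 := h2 t
    have h4 := h2 1
    linarith
  have hAord : ∀ c d : C, orderOf c = orderOf d → c ∈ A → d ∈ A := by
    intro c d hcd hc
    simp only [hAdef, Finset.mem_filter, Finset.mem_univ, true_and] at hc ⊢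
    exact R.equiv.trans hc (hrat c d hcd)
  set ρ := (a - b).natAbs with hρ
  have hρ2 : (ρ : ℤ) ^ 2 = r := by rw [hr, hρ, Int.natAbs_sq]
  have hm0 : (2 : ℤ) ≤ m := by exact_mod_cast hC
  have hρ1 : 1 ≤ ρ := by
    by_contra h0
    have hab : a = b := by omega
    rw [hab] at hk hab1 hab2
    have hr0 : r = 0 := by rw [hr, hab]; ring
    rw [hr0] at hk
    have hb0 : (1 : ℤ) ≤ b := by rw [hb]; exact_mod_cast hb1
    have hbm : b < m := by rw [hb]; exact_mod_cast hb2
    nlinarith
  have hcases : (a : ℤ) = ρ ∨ a + ρ = m := by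
    rcases spectral ρ A hAord _ (fun t => by rw [hρ2]; exact hcube t) hρ1 with h | h | h | h
    · omega
    · omega
    · left; rw [ha]; exact_mod_cast h
    · right; rw [ha]; exact_mod_cast h
  have hA1 : (1 : ℤ) ≤ a ∧ a < m := ⟨by rw [ha]; exact_mod_cast ha1, by rw [ha]; exact_mod_cast ha2⟩
  have hB1 : (1 : ℤ) ≤ b ∧ b < m := ⟨by rw [hb]; exact_mod_cast hb1, by rw [hb]; exact_mod_cast hb2⟩
  have hρz : (1 : ℤ) ≤ ρ := by exact_mod_cast hρ1
  have hab' : b = a - ρ ∨ b = a + ρ := by
    rcases Int.natAbs_eq (a - b) with h | h <;> rw [← hρ] at h <;> omega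
  have hsol : (ρ : ℤ) = 2 ∧ (m : ℤ) = 8 ∧ b = 4 ∧ r = 4 ∧ ((a = 2 ∧ μ = 2) ∨ (a = 6 ∧ μ = 6)) := by
    have hμ : μ = a + b - r := by linarith
    rw [hμ] at hab2
    rw [← hρ2] at hab2 hμ ⊢
    rcases hcases with hc | hc
    · have hb' : b = 2 * ρ := by omega
      rw [hb', hc] at hab2
      have e : (3 - (ρ : ℤ)) * m = 4 * ρ := by
        refine mul_right_cancel₀ (show (ρ : ℤ) ≠ 0 by omega) ?_
        linear_combination -hab2
      have hρ3 : (ρ : ℤ) < 3 := by
        by_contra h
        nlinarith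
      interval_cases h : (ρ : ℤ)
      · omega
      · refine ⟨rfl, by omega, by omega, by norm_num, Or.inl ⟨by omega, by omega⟩⟩
    · have hb' : b = m - 2 * ρ := by omega
      have ha' : a = m - ρ := by omega
      rw [hb', ha'] at hab2
      have e : (3 - (ρ : ℤ)) * m = 4 * ρ := by
        refine mul_right_cancel₀ (show (ρ : ℤ) ≠ 0 by omega) ?_
        linear_combination -hab2
      have hρ3 : (ρ : ℤ) < 3 := by
        by_contra h
        nlinarith
      interval_cases h : (ρ : ℤ)
      · omega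
      · refine ⟨rfl, by omega, by omega, by norm_num, Or.inr ⟨by omega, by omega⟩⟩
  obtain ⟨-, hm8, hb4, hr4, haμ⟩ := hsol
  have hm8' : Nat.card C = 8 := by rw [Nat.card_eq_fintype_card]; exact_mod_cast hm8
  let e : Multiplicative (ZMod 8) ≃* C :=
    (AddEquiv.toMultiplicative (ZMod.ringEquivCongr hm8'.symm).toAddEquiv).trans
      (zmodCyclicMulEquiv inferInstance)
  let ε : ZMod 8 ≃ C := Multiplicative.ofAdd.trans e.toEquiv
  have hεadd : ∀ i j, ε (i + j) = ε i * ε j := fun i j => by simp [ε, ← map_mul, ← ofAdd_add]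
  have hεsub : ∀ i j, ε (i - j) = ε i * (ε j)⁻¹ := fun i j => by
    rw [eq_mul_inv_iff_mul_eq, ← hεadd, sub_add_cancel]
  have hεz : ε 0 = 1 := by simp [ε]
  set A8 := univ.filter fun i : ZMod 8 => ε i ∈ A
  set B8 := univ.filter fun i : ZMod 8 => ε i ∈ B
  have hA8 : A8.card = A.card :=
    Finset.card_bij (fun i _ => ε i) (fun i hi => (Finset.mem_filter.1 hi).2)
      (fun i _ j _ h => ε.injective h) (fun c hc => ⟨ε.symm c, by simp [A8, hc], by simp⟩)
  have hB8 : B8.card = B.card :=
    Finset.card_bij (fun i _ => ε i) (fun i hi => (Finset.mem_filter.1 hi).2)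
      (fun i _ j _ h => ε.injective h) (fun c hc => ⟨ε.symm c, by simp [B8, hc], by simp⟩)
  have hzero : (0 : ZMod 8) ∉ A8 := by
    simp only [A8, Finset.mem_filter, hεz, hAdef, Finset.mem_univ, true_and, map_one]
    exact fun h => hg1 (R.one g (R.equiv.symm h))
  have hinv8 : ∀ i ∈ A8, 3 * i ∈ A8 ∧ 5 * i ∈ A8 ∧ 7 * i ∈ A8 := by
    intro i hi
    have key : ∀ k : ℕ, k.Coprime 8 → (k : ZMod 8) * i ∈ A8 := by
      intro k hk
      simp only [A8, Finset.mem_filter, Finset.mem_univ, true_and] at hi ⊢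
      have hpow : ε ((k : ZMod 8) * i) = ε i ^ k := by
        simp [ε, ← nsmul_eq_mul, ofAdd_nsmul, map_pow]
      rw [hpow]
      refine hAord _ _ (Nat.Coprime.orderOf_pow ?_).symm hi
      refine (Nat.Coprime.coprime_dvd_right ?_ hk).symm
      exact (orderOf_dvd_natCard _).trans (dvd_of_eq hm8')
    exact ⟨key 3 (by norm_num), key 5 (by norm_num), key 7 (by norm_num)⟩
  have hcond : ∀ t : ZMod 8, (((A8.filter fun a => t - a ∈ A8).card : ℤ) +
      ((B8.filter fun b => b - t ∈ B8).card : ℤ)) = (if t = 0 then r else 0) + μ := by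
    intro t
    have h1 := hcc (ε t)
    rw [MonoidAlgebra.coeff_add, Finsupp.add_apply, coeff_mul_eq, coeff_mul_eq, ← Equiv.sum_comp ε,
      ← Equiv.sum_comp ε] at h1
    rw [show (if ε t = 1 then r else 0) = if t = 0 then r else 0 from
      if_congr ⟨fun h => ε.injective (h.trans hεz.symm), fun h => h ▸ hεz⟩ rfl rfl] at h1
    rw [← h1]
    congr 1
    · rw [hAc]
      simp only [indC, coeff_ofFun, ite_mul, one_mul, zero_mul, ← ite_and]
      rw [show A8.filter (fun a => t - a ∈ A8) =
          univ.filter (fun i : ZMod 8 => ε i ∈ A ∧ (ε i)⁻¹ * ε t ∈ A) by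
            ext i; simp [A8, hεsub, mul_comm], Finset.natCast_card_filter]
      refine Finset.sum_congr rfl fun i _ => ?_; congr
    · rw [hBc]
      simp only [indC, Dih.star, coeff_ofFun, ite_mul, one_mul, zero_mul, ← ite_and]
      rw [show B8.filter (fun b => b - t ∈ B8) =
          univ.filter (fun i : ZMod 8 => ε i ∈ B ∧ ((ε i)⁻¹ * ε t)⁻¹ ∈ B) by
            ext i; simp [B8, hεsub, mul_comm], Finset.natCast_card_filter]
      refine Finset.sum_congr rfl fun i _ => ?_; congr
  have hA8' := eight A8 (Finset.mem_powerset.2 (Finset.subset_univ _)) (by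
    rcases haμ with ⟨h, -⟩ | ⟨h, -⟩ <;> omega) hzero hinv8
  have hB8' : B8 ∈ (univ : Finset (ZMod 8)).powersetCard 4 :=
    Finset.mem_powersetCard.2 ⟨Finset.subset_univ _, by omega⟩
  rcases haμ with ⟨ha', hμ⟩ | ⟨ha', hμ⟩ <;> rcases hA8' with h | h
  · refine eight_two B8 hB8' fun t => ?_
    have := hcond t
    rw [h, hr4, hμ] at this
    split_ifs at this ⊢ <;> omega
  · have := congrArg Finset.card h
    have h6 : ({1, 2, 3, 5, 6, 7} : Finset (ZMod 8)).card = 6 := by decide
    omega
  · have := congrArg Finset.card h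
    have h2 : ({2, 6} : Finset (ZMod 8)).card = 2 := by decide
    omega
  · refine eight_six B8 hB8' fun t => ?_
    have := hcond t
    rw [h, hr4, hμ] at this
    split_ifs at this ⊢ <;> omega

end SR

end Cfsg.Agent.Lib.DihedralBGroup12
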