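import Cfsg.Agent.Lib.DihedralBGroup12.Split

/-! Primitive Schur rings with self-paired basic sets, and their Frobenius congruences over a
generalised dihedral group. -/

namespace Cfsg.Agent.Lib.DihedralBGroup12

open Finset

set_option autoImplicit false
set_option linter.unusedSectionVars false

/-- A primitive Schur ring with self-paired classes, given by its class relation. -/
structure SR (D : Type*) [Group D] [Fintype D] where
  r : D → D → Prop
  equiv : Equivalence r
  one : ∀ g, r 1 g → g = 1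
  symm : ∀ g, r g g⁻¹
  prim : ∀ K : Subgroup D, (∀ g ∈ K, ∀ h, r g h → h ∈ K) → K = ⊥ ∨ K = ⊤
  mul : ∀ x y : MonoidAlgebra ℤ D, (∀ g h, r g h → x.coeff g = x.coeff h) →
    (∀ g h, r g h → y.coeff g = y.coeff h) → ∀ g h, r g h → (x * y).coeff g = (x * y).coeff h

theorem coeff_natCast_mul {G : Type*} [Monoid G] (n : ℕ) (x : MonoidAlgebra ℤ G) (g : G) :
    ((n : MonoidAlgebra ℤ G) * x).coeff g = (n : ℤ) * x.coeff g := by
  rw [← nsmul_eq_mul, MonoidAlgebra.coeff_smul_apply, nsmul_eq_mul]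

namespace SR

variable {D : Type*} [Group D] [Fintype D] (R : SR D)

/-- Constant on classes. -/
def Inv (x : MonoidAlgebra ℤ D) : Prop := ∀ g h, R.r g h → x.coeff g = x.coeff h

theorem inv_one : R.Inv 1 := by
  classical
  intro g h hgh
  simp only [MonoidAlgebra.one_def, MonoidAlgebra.coeff_single, Finsupp.single_apply]
  by_cases hg : g = 1
  · subst hg; rw [R.one h hgh]
  · rw [if_neg (Ne.symm hg), if_neg]
    intro e
    subst e
    exact hg (R.one g (R.equiv.symm hgh))

theorem inv_const (c : ℤ) : R.Inv (ofFun fun _ => c) := fun _ _ _ => rfl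

/-- The invariant elements. -/
def ring : Subring (MonoidAlgebra ℤ D) where
  carrier := {x | R.Inv x}
  mul_mem' hx hy := R.mul _ _ hx hy
  one_mem' := R.inv_one
  add_mem' {x y} hx hy := fun g h hgh => by simp [hx g h hgh, hy g h hgh]
  zero_mem' := fun g h _ => by simp
  neg_mem' {x} hx := fun g h hgh => by simp [hx g h hgh]

theorem coeff_inv_eq {x : MonoidAlgebra ℤ D} (hx : R.Inv x) (g : D) : x.coeff g⁻¹ = x.coeff g :=
  (hx g g⁻¹ (R.symm g)).symm

theorem comm {x y : MonoidAlgebra ℤ D} (hx : R.Inv x) (hy : R.Inv y) : x * y = y * x := by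
  ext g
  rw [← R.coeff_inv_eq (R.mul x y hx hy) g, coeff_mul_eq, coeff_mul_eq]
  refine Fintype.sum_equiv (Equiv.mulLeft g) _ _ fun s => ?_
  rw [Equiv.coe_mulLeft, mul_comm, ← R.coeff_inv_eq hy (g * s), mul_inv_rev, inv_mul_cancel_right,
    R.coeff_inv_eq hx]

noncomputable instance : CommRing R.ring :=
  { (inferInstance : Ring R.ring) with mul_comm := fun a b => Subtype.ext (R.comm a.2 b.2) }

theorem natCast_dvd {n : ℕ} (a : R.ring) :
    (n : R.ring) ∣ a ↔ ∀ g, (n : ℤ) ∣ (a : MonoidAlgebra ℤ D).coeff g := by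
  constructor
  · rintro ⟨b, rfl⟩ g
    exact ⟨(b : MonoidAlgebra ℤ D).coeff g, by
      rw [Subring.coe_mul, SubringClass.coe_natCast, coeff_natCast_mul]⟩
  · intro h
    refine ⟨⟨ofFun fun g => (a : MonoidAlgebra ℤ D).coeff g / (n : ℤ), fun g k hgk => ?_⟩,
      Subtype.ext ?_⟩
    · simp [a.2 g k hgk]
    · ext g
      rw [Subring.coe_mul, SubringClass.coe_natCast, coeff_natCast_mul, coeff_ofFun,
        Int.mul_ediv_cancel' (h g)]

open Classical in
/-- The indicator of a set. -/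
noncomputable def ind (U : Set D) : MonoidAlgebra ℤ D := ofFun fun g => if g ∈ U then 1 else 0

/-- A union of classes. -/
def Closed (U : Set D) : Prop := ∀ g h, R.r g h → g ∈ U → h ∈ U

theorem inv_ind {U : Set D} (hU : R.Closed U) : R.Inv (ind U) := by
  classical
  intro g h hgh
  have : g ∈ U ↔ h ∈ U := ⟨hU g h hgh, hU h g (R.equiv.symm hgh)⟩
  simp [ind, this]

theorem closed_cls (a : D) : R.Closed {g | R.r a g} := fun _ _ hgh hg => R.equiv.trans hg hgh

theorem mem_mul_iff (U V : Set D) (g : D) :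
    (ind U * ind V).coeff g ≠ 0 ↔ ∃ u ∈ U, ∃ v ∈ V, u * v = g := by
  classical
  rw [coeff_mul_eq]
  simp only [ind, coeff_ofFun, ite_mul, one_mul, zero_mul, ← ite_and, Finset.sum_boole]
  rw [Nat.cast_ne_zero, Finset.card_ne_zero, Finset.filter_nonempty_iff]
  constructor
  · rintro ⟨s, -, h1, h2⟩; exact ⟨s, h1, _, h2, mul_inv_cancel_left s g⟩
  · rintro ⟨u, hu, v, hv, rfl⟩; exact ⟨u, Finset.mem_univ _, hu, by rwa [inv_mul_cancel_left]⟩

theorem mul_sets {U V : Set D} (hU : R.Closed U) (hV : R.Closed V) :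
    R.Closed {g | ∃ u ∈ U, ∃ v ∈ V, u * v = g} := by
  intro g h hgh hg
  exact (mem_mul_iff U V h).1 ((R.mul _ _ (R.inv_ind hU) (R.inv_ind hV) g h hgh) ▸
    (mem_mul_iff U V g).2 hg)

theorem gen {W : Set D} (hW : R.Closed W) {H : Subgroup D} (hH : H ≠ ⊤) (hWH : ∀ g ∈ W, g ∈ H)
    {g : D} (hg : g ∈ W) : g = 1 := by
  have key : ∀ x ∈ Subgroup.closure W, ∀ h, R.r x h → h ∈ Subgroup.closure W := by
    intro x hx
    have hx' : x ∈ Submonoid.closure W := by
      rw [← Subgroup.closure_toSubmonoid_of_finite]; exact hx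
    clear hx
    induction hx' using Submonoid.closure_induction with
    | mem x hx => exact fun h hh => Subgroup.subset_closure (hW x h hh hx)
    | one => exact fun h hh => by rw [R.one h hh]; exact one_mem _
    | mul x y _ _ ihx ihy =>
      intro h hh
      obtain ⟨u, hu, v, hv, rfl⟩ := R.mul_sets (R.closed_cls x) (R.closed_cls y) (x * y) h hh
        ⟨x, R.equiv.refl x, y, R.equiv.refl y, rfl⟩
      exact mul_mem (ihx u hu) (ihy v hv)
  rcases R.prim _ key with h | h
  · exact Subgroup.mem_bot.1 (h ▸ Subgroup.subset_closure hg)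
  · exact absurd (top_le_iff.1 (h ▸ (Subgroup.closure_le H).2 hWH)) hH

/-- An invariant element fixed by a nontrivial left translation is constant. -/
theorem stab {v : MonoidAlgebra ℤ D} (hv : R.Inv v) {k : D} (hk : k ≠ 1)
    (hkv : ∀ g, v.coeff (k * g) = v.coeff g) (g : D) : v.coeff g = v.coeff 1 := by
  let K : Subgroup D :=
    { carrier := {a | ∀ b, v.coeff (a * b) = v.coeff b}
      one_mem' := fun b => by rw [one_mul]
      mul_mem' := fun {a c} ha hc b => by rw [mul_assoc, ha, hc]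
      inv_mem' := fun {a} ha b => by rw [← ha (a⁻¹ * b), mul_inv_cancel_left] }
  have hiff : ∀ a, a ∈ K ↔ (v * v).coeff a = (v * v).coeff 1 := by
    intro a
    have e : ∀ a, (v * v).coeff a⁻¹ = ∑ b, v.coeff b * v.coeff (a * b) := fun a => by
      rw [coeff_mul_eq]
      refine Finset.sum_congr rfl fun b _ => ?_
      rw [← R.coeff_inv_eq hv (a * b), mul_inv_rev]
    have h1 : (v * v).coeff 1 = ∑ b, v.coeff b ^ 2 := by
      have := e 1
      rw [_root_.inv_one] at this
      rw [this]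
      exact Finset.sum_congr rfl fun b _ => by rw [one_mul, sq]
    have h2 : ∑ b, v.coeff (a * b) ^ 2 = ∑ b, v.coeff b ^ 2 :=
      Equiv.sum_comp (Equiv.mulLeft a) (fun b => v.coeff b ^ 2)
    have h3 : ∑ b, (v.coeff (a * b) - v.coeff b) ^ 2 = 2 * (v * v).coeff 1 - 2 * (v * v).coeff a := by
      rw [← R.coeff_inv_eq (R.mul v v hv hv) a, e, h1]
      simp only [sub_sq, Finset.sum_add_distrib, Finset.sum_sub_distrib, h2]
      simp only [mul_assoc, ← Finset.mul_sum]
      have : ∑ b, v.coeff (a * b) * v.coeff b = ∑ b, v.coeff b * v.coeff (a * b) :=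
        Finset.sum_congr rfl fun b _ => mul_comm _ _
      rw [this]; ring
    constructor
    · intro ha
      have : ∑ b, (v.coeff (a * b) - v.coeff b) ^ 2 = 0 :=
        Finset.sum_eq_zero fun b _ => by rw [ha b, sub_self]; ring
      linarith
    · intro ha b
      have : ∑ b, (v.coeff (a * b) - v.coeff b) ^ 2 = 0 := by rw [h3, ha, sub_self]
      exact sub_eq_zero.1 (pow_eq_zero_iff two_ne_zero |>.1
        ((Finset.sum_eq_zero_iff_of_nonneg fun b _ => sq_nonneg _).1 this b (Finset.mem_univ b)))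
  rcases R.prim K (fun a ha h hah =>
    (hiff h).2 ((R.mul v v hv hv a h hah).symm.trans ((hiff a).1 ha))) with h | h
  · exact absurd (Subgroup.mem_bot.1 (h ▸ (show k ∈ K from hkv))) hk
  · have hg : g ∈ K := h ▸ Subgroup.mem_top g
    have := hg 1
    rwa [mul_one] at this

variable {C : Type*} [CommGroup C] [Fintype C] (M : Dih C D)

/-- Every class meets `C`. -/
theorem meets (hC : 2 ≤ Fintype.card C) (g : D) : ∃ c, R.r g (M.ι c) := by
  by_contra hno
  push Not at hno
  have hg1 : g ≠ 1 := fun e => hno 1 (by rw [e, map_one]; exact R.equiv.refl 1)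
  have hrefl : ∀ u, R.r g u → ∃ c, u = M.ι c * M.S := fun u hu => by
    rcases M.cover u with ⟨c, rfl⟩ | h
    · exact absurd hu (hno c)
    · exact h
  have hrange : (M.ι.range : Subgroup D) ≠ ⊤ := fun h => by
    obtain ⟨c, hc⟩ := (h ▸ Subgroup.mem_top M.S : M.S ∈ M.ι.range)
    exact M.not_mem c hc
  have hW := R.mul_sets (R.closed_cls g) (R.closed_cls g)
  have hprod : ∀ u, R.r g u → u * g = 1 := by
    intro u hu
    refine R.gen hW hrange ?_ ⟨u, hu, g, R.equiv.refl g, rfl⟩
    rintro _ ⟨a, ha, b, hb, rfl⟩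
    obtain ⟨c, rfl⟩ := hrefl a ha
    obtain ⟨d, rfl⟩ := hrefl b hb
    refine ⟨c * d⁻¹, ?_⟩
    rw [mul_assoc, ← mul_assoc M.S, M.conj, mul_assoc (M.ι d⁻¹), M.sq, mul_one, map_mul]
  have hsingle : R.Closed {g} := fun a b hab ha => by
    rw [Set.mem_singleton_iff] at ha ⊢
    subst ha
    exact mul_right_cancel ((hprod b hab).trans (hprod a (R.equiv.refl a)).symm)
  obtain ⟨c, hc⟩ := hrefl g (R.equiv.refl g)
  have hz : Subgroup.zpowers g ≠ ⊤ := by
    intro h
    have h1 : orderOf g = 2 := orderOf_eq_prime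
      (by rw [pow_two, hc]; exact M.S_conj c) hg1
    have h2 := Nat.card_zpowers g
    rw [h, h1, Subgroup.card_top, Nat.card_eq_fintype_card, M.card_eq] at h2
    omega
  exact hg1 (R.gen hsingle hz (fun u hu => by
    rw [Set.mem_singleton_iff] at hu; subst hu; exact Subgroup.mem_zpowers _) rfl)

theorem star_cPart {x : MonoidAlgebra ℤ D} (hx : R.Inv x) : Dih.star (M.cPart x) = M.cPart x := by
  ext c
  simp [Dih.star, map_inv, R.coeff_inv_eq hx]

theorem dvd_of_cPart (hC : 2 ≤ Fintype.card C) {x : MonoidAlgebra ℤ D} (hx : R.Inv x) {n : ℤ}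
    (h : ∀ c, n ∣ x.coeff (M.ι c)) (g : D) : n ∣ x.coeff g := by
  obtain ⟨c, hc⟩ := R.meets M hC g
  rw [hx _ _ hc]; exact h c

theorem ext_cPart (hC : 2 ≤ Fintype.card C) {x y : MonoidAlgebra ℤ D} (hx : R.Inv x) (hy : R.Inv y)
    (h : ∀ c, x.coeff (M.ι c) = y.coeff (M.ι c)) : x = y := by
  ext g
  obtain ⟨c, hc⟩ := R.meets M hC g
  rw [hx _ _ hc, hy _ _ hc, h]

/-- Frobenius congruence on `C`. -/
theorem pow_prime_pow {p : ℕ} [Fact p.Prime] (hp : Odd p) {x : MonoidAlgebra ℤ D} (hx : R.Inv x)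
    [DecidableEq C] (e : ℕ) (w : C) :
    (((x ^ p ^ e).coeff (M.ι w) : ℤ) : ZMod p) =
      ∑ a ∈ univ.filter (fun a : C => a ^ p ^ e = w), ((x.coeff (M.ι a) : ℤ) : ZMod p) := by
  have h := (M.pow_parts x (R.star_cPart M hx) (p ^ e)).1
  rw [Dih.re_add_omega_pow] at h
  have h2 := frob p e (M.cPart x) w
  simp only [Dih.cPart_coeff] at h2
  rw [← h2, ← M.cPart_coeff, h, MonoidAlgebra.coeff_sum, Finsupp.finsetSum_apply, Int.cast_sum,
    Finset.sum_eq_single 0]
  · simp
  · intro k hk hk0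
    rw [Finset.mem_range] at hk
    rcases Nat.lt_succ_iff_lt_or_eq.1 hk with hk' | rfl
    · rw [mul_assoc, coeff_natCast_mul, Int.cast_mul, Int.cast_natCast,
        (ZMod.natCast_eq_zero_iff _ _).2 ((Fact.out : p.Prime).dvd_choose_pow hk0 hk'.ne), zero_mul]
    · rw [if_neg (by rw [Nat.not_even_iff_odd]; exact hp.pow), mul_zero]
      simp
  · simp

end SR

end Cfsg.Agent.Lib.DihedralBGroup12
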