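import Mathlib

/-! The group ring of a generalised dihedral group as pairs over the group ring of its abelian
subgroup of index two, and powers of symmetric elements. -/

namespace Cfsg.Agent.Lib.DihedralBGroup12

open Finset

set_option autoImplicit false
set_option linter.unusedSectionVars false

/-- `D` is the extension of the finite abelian group `C` by an involution inverting it. -/
structure Dih (C D : Type*) [CommGroup C] [Group D] where
  ι : C →* D
  S : D
  inj : Function.Injective ι
  not_mem : ∀ c, ι c ≠ S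
  sq : S * S = 1
  conj : ∀ c, S * ι c = ι c⁻¹ * S
  cover : ∀ g, (∃ c, g = ι c) ∨ ∃ c, g = ι c * S

/-- The element of the group ring with the given coefficients. -/
noncomputable def ofFun {G : Type*} [Finite G] (f : G → ℤ) : MonoidAlgebra ℤ G :=
  MonoidAlgebra.ofCoeff (Finsupp.equivFunOnFinite.symm f)

@[simp] theorem coeff_ofFun {G : Type*} [Finite G] (f : G → ℤ) (g : G) : (ofFun f).coeff g = f g := rfl

theorem coeff_mul_eq {G R : Type*} [Group G] [Fintype G] [Semiring R] (x y : MonoidAlgebra R G) (g : G) :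
    (x * y).coeff g = ∑ s : G, x.coeff s * y.coeff (s⁻¹ * g) := by
  rw [MonoidAlgebra.coeff_mul_apply_left, Finsupp.sum_fintype]
  simp

theorem frob {C : Type*} [CommGroup C] [Fintype C] [DecidableEq C] (p e : ℕ) [Fact p.Prime]
    (f : MonoidAlgebra ℤ C) (w : C) :
    (((f ^ p ^ e).coeff w : ℤ) : ZMod p) =
      ∑ a ∈ univ.filter (fun a : C => a ^ p ^ e = w), ((f.coeff a : ℤ) : ZMod p) := by
  classical
  have : CharP (MonoidAlgebra (ZMod p) C) p :=
    charP_of_injective_algebraMap (algebraMap (ZMod p) (MonoidAlgebra (ZMod p) C)).injective p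
  let π := MonoidAlgebra.mapRingHom C (Int.castRingHom (ZMod p))
  have hf : π f = ∑ a : C, MonoidAlgebra.single a ((f.coeff a : ℤ) : ZMod p) := by
    ext c
    simp [π, MonoidAlgebra.coeff_mapRingHom, Finsupp.single_apply]
  have h1 : (((f ^ p ^ e).coeff w : ℤ) : ZMod p) = (π (f ^ p ^ e)).coeff w :=
    (MonoidAlgebra.coeff_mapRingHom (Int.castRingHom (ZMod p)) (f ^ p ^ e) w).symm
  rw [h1, map_pow, hf, sum_pow_char_pow]
  simp [ZMod.pow_card_pow, Finsupp.single_apply, Finset.sum_filter, eq_comm]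

namespace Dih

variable {C D : Type*} [CommGroup C] [Fintype C] [Group D] [Fintype D] (M : Dih C D)

theorem inv_S : M.S⁻¹ = M.S := inv_eq_of_mul_eq_one_right M.sq

theorem S_conj (c : C) : M.ι c * M.S * (M.ι c * M.S) = 1 := by
  rw [mul_assoc, ← mul_assoc M.S, M.conj, mul_assoc (M.ι c⁻¹), M.sq, mul_one, ← map_mul,
    mul_inv_cancel, map_one]

theorem inv_refl (c : C) : (M.ι c * M.S)⁻¹ = M.ι c * M.S :=
  inv_eq_of_mul_eq_one_right (M.S_conj c)

/-- Cardinality split: `D` is two copies of `C`. -/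
noncomputable def splitEquiv : C ⊕ C ≃ D :=
  Equiv.ofBijective (Sum.elim M.ι fun c => M.ι c * M.S) (by
    refine ⟨Function.Injective.sumElim M.inj (fun a b h => M.inj (mul_right_cancel h)) ?_, ?_⟩
    · intro a b h
      apply M.not_mem (b⁻¹ * a)
      rw [map_mul, h, ← mul_assoc, ← map_mul, inv_mul_cancel, map_one, one_mul]
    · intro g
      rcases M.cover g with ⟨c, rfl⟩ | ⟨c, rfl⟩
      · exact ⟨Sum.inl c, rfl⟩
      · exact ⟨Sum.inr c, rfl⟩)

theorem sum_split {R : Type*} [AddCommMonoid R] (f : D → R) :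
    ∑ g : D, f g = ∑ c : C, f (M.ι c) + ∑ c : C, f (M.ι c * M.S) := by
  rw [← M.splitEquiv.sum_comp, Fintype.sum_sum_type]
  rfl

include M in
theorem card_eq : Fintype.card D = 2 * Fintype.card C := by
  rw [← Fintype.card_congr M.splitEquiv, Fintype.card_sum, two_mul]

/-- The part on `C`. -/
noncomputable def cPart (x : MonoidAlgebra ℤ D) : MonoidAlgebra ℤ C := ofFun fun c => x.coeff (M.ι c)

/-- The part off `C`. -/
noncomputable def sPart (x : MonoidAlgebra ℤ D) : MonoidAlgebra ℤ C :=
  ofFun fun c => x.coeff (M.ι c * M.S)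

@[simp] theorem cPart_coeff (x : MonoidAlgebra ℤ D) (c : C) :
    (M.cPart x).coeff c = x.coeff (M.ι c) := rfl

@[simp] theorem sPart_coeff (x : MonoidAlgebra ℤ D) (c : C) :
    (M.sPart x).coeff c = x.coeff (M.ι c * M.S) := rfl

/-- The involution of the group ring of `C`. -/
noncomputable def star (f : MonoidAlgebra ℤ C) : MonoidAlgebra ℤ C := ofFun fun c => f.coeff c⁻¹

theorem cPart_mul (x y : MonoidAlgebra ℤ D) :
    M.cPart (x * y) = M.cPart x * M.cPart y + M.sPart x * star (M.sPart y) := by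
  ext c
  simp only [MonoidAlgebra.coeff_add, Finsupp.add_apply, coeff_mul_eq, cPart_coeff, sPart_coeff, star,
    coeff_ofFun, M.sum_split]
  congr 1
  · simp [map_mul, map_inv]
  · refine Finset.sum_congr rfl fun a _ => ?_
    rw [M.inv_refl a, mul_assoc, M.conj, ← mul_assoc, ← map_mul, mul_inv_rev, inv_inv, mul_comm c⁻¹ a]

theorem sPart_mul (x y : MonoidAlgebra ℤ D) :
    M.sPart (x * y) = M.cPart x * M.sPart y + M.sPart x * star (M.cPart y) := by
  ext c
  simp only [MonoidAlgebra.coeff_add, Finsupp.add_apply, coeff_mul_eq, cPart_coeff, sPart_coeff, star,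
    coeff_ofFun, M.sum_split]
  congr 1
  · refine Finset.sum_congr rfl fun a _ => ?_
    rw [← mul_assoc, ← map_inv, ← map_mul]
  · refine Finset.sum_congr rfl fun a _ => ?_
    rw [M.inv_refl a, mul_assoc, ← mul_assoc M.S, M.conj, mul_assoc (M.ι c⁻¹), M.sq, mul_one,
      ← map_mul, mul_inv_rev, inv_inv, mul_comm c⁻¹ a]

theorem cPart_one : M.cPart 1 = 1 := by
  classical
  ext c
  simp [MonoidAlgebra.one_def, Finsupp.single_apply, eq_comm (a := (1 : C)), eq_comm (a := (1 : D)),
    map_eq_one_iff M.ι M.inj]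

theorem sPart_one : M.sPart 1 = 0 := by
  classical
  ext c
  simp only [sPart_coeff, MonoidAlgebra.one_def, MonoidAlgebra.coeff_single, Finsupp.single_apply,
    MonoidAlgebra.coeff_zero, Finsupp.coe_zero, Pi.zero_apply]
  rw [if_neg]
  intro h
  apply M.not_mem c⁻¹
  rw [map_inv]
  exact inv_eq_of_mul_eq_one_right h.symm

/-- Powers of an element whose part on `C` is symmetric. -/
theorem pow_parts (x : MonoidAlgebra ℤ D) (hx : star (M.cPart x) = M.cPart x) (n : ℕ) :
    let w : QuadraticAlgebra (MonoidAlgebra ℤ C) (M.sPart x * star (M.sPart x)) 0 := ⟨M.cPart x, 1⟩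
    M.cPart (x ^ n) = (w ^ n).re ∧ M.sPart (x ^ n) = (w ^ n).im * M.sPart x := by
  intro w
  induction n with
  | zero => exact ⟨by simpa [QuadraticAlgebra.re_one] using M.cPart_one,
      by simp [M.sPart_one, QuadraticAlgebra.im_one]⟩
  | succ n ih =>
    rw [pow_succ, pow_succ, M.cPart_mul, M.sPart_mul, ih.1, ih.2, hx]
    simp only [QuadraticAlgebra.re_mul, QuadraticAlgebra.im_mul, w]
    constructor <;> ring

open QuadraticAlgebra in
theorem re_add_omega_pow {R : Type*} [CommRing R] (A h : R) (n : ℕ) :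
    ((⟨A, 1⟩ : QuadraticAlgebra R h 0) ^ n).re =
      ∑ k ∈ range (n + 1), (n.choose k : R) * A ^ (n - k) * (if Even k then h ^ (k / 2) else 0) := by
  have hw : (⟨A, 1⟩ : QuadraticAlgebra R h 0) = omega + algebraMap R _ A := by
    ext <;> simp [algebraMap_eq, omega]
  have hω : ∀ k, (omega : QuadraticAlgebra R h 0) ^ k =
      if Even k then ⟨h ^ (k / 2), 0⟩ else ⟨0, h ^ (k / 2)⟩ := by
    intro k
    induction k with
    | zero => ext <;> simp
    | succ k ih =>
      rw [pow_succ, ih]
      rcases Nat.even_or_odd k with ⟨j, rfl⟩ | ⟨j, rfl⟩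
      · rw [if_pos ⟨j, rfl⟩, if_neg (by simp [parity_simps]),
          show (j + j + 1) / 2 = j by omega, show (j + j) / 2 = j by omega]
        ext <;> simp [omega]
      · rw [if_neg (by simp [parity_simps]), if_pos (by simp [parity_simps]),
          show (2 * j + 1 + 1) / 2 = j + 1 by omega, show (2 * j + 1) / 2 = j by omega]
        ext <;> simp [omega, pow_succ, mul_comm]
  rw [hw, add_pow]
  have hre : ∀ (s : Finset ℕ) (f : ℕ → QuadraticAlgebra R h 0), (∑ k ∈ s, f k).re = ∑ k ∈ s, (f k).re :=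
    fun s f => map_sum (QuadraticAlgebra.reₗ h 0) f s
  rw [hre]
  refine Finset.sum_congr rfl fun k _ => ?_
  rw [hω, ← map_pow]
  split_ifs <;> simp [algebraMap_eq] <;> ring

end Dih

end Cfsg.Agent.Lib.DihedralBGroup12
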