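import Cfsg.Agent.Lib.DihedralBGroup12.Rational

/-! A primitive Schur ring with self-paired classes over a dihedral group is trivial: reduce to the
rational case by the multipliers. -/

namespace Cfsg.Agent.Lib.DihedralBGroup12

open Finset

set_option autoImplicit false
set_option linter.unusedSectionVars false

namespace SR

variable {D : Type*} [Group D] [Fintype D] (R : SR D)
variable {C : Type*} [CommGroup C] [Fintype C] (M : Dih C D)

theorem exists_large_prime {m k : ℕ} (hm : m ≠ 0) (hk : k.Coprime m) (n : ℕ) :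
    ∃ q, q.Prime ∧ Odd q ∧ n < q ∧ q ≡ k [MOD m] := by
  obtain ⟨q, hq, hqp, he⟩ := Nat.forall_exists_prime_gt_and_modEq (max n 2) hm hk
  exact ⟨q, hqp, hqp.odd_of_ne_two (by omega), by omega, he⟩

/-- The Frobenius power at a prime congruent to `k` moves the values by `k`. -/
theorem pow_eq_root [DecidableEq C] {q k k' : ℕ} [hq : Fact q.Prime] (hodd : Odd q)
    (hqk : q ≡ k [MOD Fintype.card C]) (hkk : k * k' ≡ 1 [MOD Fintype.card C])
    {x : MonoidAlgebra ℤ D} (hx : R.Inv x) (w : C) :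
    (((x ^ q).coeff (M.ι w) : ℤ) : ZMod q) = ((x.coeff (M.ι (w ^ k')) : ℤ) : ZMod q) := by
  have h := R.pow_prime_pow M hodd hx 1 w
  rw [pow_one] at h
  rw [h]
  have hk1 : ∀ a : C, a ^ (k * k') = a := fun a => by
    conv_rhs => rw [← pow_one a]
    exact pow_eq_pow_iff_modEq.2 (hkk.of_dvd orderOf_dvd_card)
  have hq1 : ∀ a : C, a ^ q = a ^ k := fun a => pow_eq_pow_iff_modEq.2 (hqk.of_dvd orderOf_dvd_card)
  refine (Finset.sum_eq_single_of_mem (w ^ k')
    (Finset.mem_filter.2 ⟨Finset.mem_univ _, by rw [hq1, ← pow_mul, mul_comm, hk1]⟩) ?_)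
  intro b hb hne
  exfalso
  apply hne
  rw [← (Finset.mem_filter.1 hb).2, hq1, ← pow_mul, hk1]

theorem exists_inverse {m k : ℕ} (hm : 2 ≤ m) (hk : k.Coprime m) :
    ∃ k', k'.Coprime m ∧ k * k' ≡ 1 [MOD m] := by
  obtain ⟨k', -, hk'⟩ := Nat.exists_mul_mod_eq_one_of_coprime hk hm
  refine ⟨k', ?_, ?_⟩
  · rw [Nat.coprime_iff_gcd_eq_one]
    have h : k * k' ≡ 1 [MOD m] := by rw [Nat.ModEq, hk', Nat.one_mod_eq_one.2 (by omega)]
    have := h.gcd_eq
    rw [Nat.gcd_one_left] at this
    exact Nat.eq_one_of_dvd_one (this ▸ Nat.gcd_dvd_gcd_mul_left_left _ _ _)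
  · rw [Nat.ModEq, hk', Nat.one_mod_eq_one.2 (by omega)]

/-- Multipliers permute the traces of the classes on `C`. -/
theorem compat [DecidableEq C] (hC : 2 ≤ Fintype.card C) {k : ℕ} (hk : k.Coprime (Fintype.card C))
    {a b : C} (hab : R.r (M.ι a) (M.ι b)) : R.r (M.ι (a ^ k)) (M.ι (b ^ k)) := by
  classical
  have key : ∀ (j j' : ℕ), j.Coprime (Fintype.card C) → j * j' ≡ 1 [MOD Fintype.card C] →
      ∀ a c : C, R.r (M.ι c) (M.ι (a ^ j)) → R.r (M.ι a) (M.ι (c ^ j')) := by
    intro j j' hj hjj a c hc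
    obtain ⟨q, hq, hodd, -, hqj⟩ := exists_large_prime Fintype.card_ne_zero hj 2
    have := Fact.mk hq
    set x := ind {g | R.r (M.ι a) g}
    have hx : R.Inv x := R.inv_ind (R.closed_cls _)
    have h1 := pow_eq_root R M hodd hqj hjj hx c
    rw [(Subring.pow_mem R.ring (show x ∈ R.ring from hx) q) _ _ hc,
      pow_eq_root R M hodd hqj hjj hx (a ^ j)] at h1
    have ha : (a ^ j) ^ j' = a := by
      rw [← pow_mul]
      conv_rhs => rw [← pow_one a]
      exact pow_eq_pow_iff_modEq.2 (hjj.of_dvd orderOf_dvd_card)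
    rw [ha] at h1
    by_contra hn
    simp [x, ind, hn, R.equiv.refl, -map_pow] at h1
  obtain ⟨k', hk', hkk⟩ := exists_inverse hC hk
  refine key k' k hk' (by rwa [mul_comm]) (a ^ k) b (R.equiv.trans (R.equiv.symm hab) ?_)
  have : (a ^ k) ^ k' = a := by
    rw [← pow_mul]
    conv_rhs => rw [← pow_one a]
    exact pow_eq_pow_iff_modEq.2 (hkk.of_dvd orderOf_dvd_card)
  rw [this]
  exact R.equiv.refl _

include M in
/-- A primitive ring with self-paired classes is trivial. -/
theorem trivial_of_primitive [IsCyclic C] (hC : 2 ≤ Fintype.card C) :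
    ∀ g h : D, g ≠ 1 → h ≠ 1 → R.r g h := by
  classical
  set m := Fintype.card C with hm
  have hinvk : ∀ {k}, k.Coprime m → ∀ (a : C), ∃ k', k'.Coprime m ∧ k * k' ≡ 1 [MOD m] ∧ (a ^ k) ^ k' = a := by
    intro k hk a
    obtain ⟨k', h1, h2⟩ := exists_inverse hC hk
    refine ⟨k', h1, h2, ?_⟩
    rw [← pow_mul]
    conv_rhs => rw [← pow_one a]
    exact pow_eq_pow_iff_modEq.2 (h2.of_dvd orderOf_dvd_card)
  let r' : D → D → Prop := fun g h =>
    ∃ a b : C, ∃ k, k.Coprime m ∧ R.r g (M.ι a) ∧ R.r h (M.ι b) ∧ a ^ k = b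
  have hsub : ∀ g h, R.r g h → r' g h := by
    intro g h hgh
    obtain ⟨a, ha⟩ := R.meets M hC g
    exact ⟨a, a, 1, Nat.coprime_one_left _, ha, R.equiv.trans (R.equiv.symm hgh) ha, pow_one a⟩
  have hInv' : ∀ x : MonoidAlgebra ℤ D, (∀ g h, r' g h → x.coeff g = x.coeff h) →
      R.Inv x ∧ ∀ (a : C) (k : ℕ), k.Coprime m → x.coeff (M.ι (a ^ k)) = x.coeff (M.ι a) :=
    fun x hx => ⟨fun g h hgh => hx g h (hsub g h hgh), fun a k hk =>
      (hx _ _ ⟨a, a ^ k, k, hk, R.equiv.refl _, R.equiv.refl _, rfl⟩).symm⟩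
  let R' : SR D :=
    { r := r'
      equiv := ⟨fun g => hsub g g (R.equiv.refl g), by
          rintro g h ⟨a, b, k, hk, ha, hb, rfl⟩
          obtain ⟨k', hk', -, he⟩ := hinvk hk a
          exact ⟨a ^ k, a, k', hk', hb, ha, he⟩, by
          rintro g h l ⟨a, b, k, hk, ha, hb, rfl⟩ ⟨c, d, j, hj, hc, hd, rfl⟩
          refine ⟨a, (a ^ k) ^ j, k * j, Nat.Coprime.mul_left hk hj, ha, R.equiv.trans hd
            (R.compat M hC hj (R.equiv.trans (R.equiv.symm hc) hb)), pow_mul a k j⟩⟩
      one := by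
        rintro g ⟨a, b, k, hk, ha, hb, rfl⟩
        have ha1 : a = 1 := (map_eq_one_iff M.ι M.inj).1 (R.one _ ha)
        rw [ha1, one_pow, map_one] at hb
        exact R.one g (R.equiv.symm hb)
      symm := fun g => hsub g _ (R.symm g)
      prim := fun K hK => R.prim K fun g hg h hgh => hK g hg h (hsub g h hgh)
      mul := by
        intro x y hx hy
        obtain ⟨hx1, hx2⟩ := hInv' x hx
        obtain ⟨hy1, hy2⟩ := hInv' y hy
        have hxy := R.mul x y hx1 hy1
        rintro g h ⟨a, b, k, hk, ha, hb, rfl⟩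
        rw [hxy _ _ ha, hxy _ _ hb]
        set u := (x * y).coeff (M.ι a)
        set v := (x * y).coeff (M.ι (a ^ k))
        obtain ⟨q, hq, hodd, hqn, hqk⟩ :=
          exists_large_prime (m := m) (by omega) hk (u - v).natAbs
        have := Fact.mk hq
        obtain ⟨k', hk', hkk, he⟩ := hinvk hk a
        have hfix : ∀ z : R.ring, (∀ (a : C) (k : ℕ), k.Coprime m →
            (z : MonoidAlgebra ℤ D).coeff (M.ι (a ^ k)) = (z : MonoidAlgebra ℤ D).coeff (M.ι a)) →
            (q : R.ring) ∣ z ^ q - z := by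
          intro z hz
          refine (R.natCast_dvd _).2 (R.dvd_of_cPart M hC (z ^ q - z).2 fun c => ?_)
          rw [AddSubgroupClass.coe_sub, SubmonoidClass.coe_pow, MonoidAlgebra.coeff_sub,
            Finsupp.sub_apply, ← ZMod.intCast_zmod_eq_zero_iff_dvd, Int.cast_sub, sub_eq_zero,
            pow_eq_root R M hodd hqk hkk z.2 c, hz c k' hk']
        have hd : (q : R.ring) ∣
            ((⟨x, hx1⟩ : R.ring) * ⟨y, hy1⟩) ^ q - ⟨x, hx1⟩ * ⟨y, hy1⟩ := by
          have := dvd_add ((hfix ⟨x, hx1⟩ hx2).mul_right (⟨y, hy1⟩ ^ q))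
            ((hfix ⟨y, hy1⟩ hy2).mul_left (⟨x, hx1⟩ : R.ring))
          convert this using 1
          ring
        have h1 := (R.natCast_dvd _).1 hd (M.ι (a ^ k))
        rw [AddSubgroupClass.coe_sub, SubmonoidClass.coe_pow, Subring.coe_mul,
          MonoidAlgebra.coeff_sub, Finsupp.sub_apply, ← ZMod.intCast_zmod_eq_zero_iff_dvd,
          Int.cast_sub, sub_eq_zero, pow_eq_root R M hodd hqk hkk hxy (a ^ k), he, ← sub_eq_zero,
          ← Int.cast_sub, ZMod.intCast_zmod_eq_zero_iff_dvd] at h1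
        have h2 : (q : ℤ) ∣ u - v := h1
        exact sub_eq_zero.1 (Int.eq_zero_of_abs_lt_dvd h2 (by
          rw [Int.abs_eq_natAbs]; exact_mod_cast hqn)) }
  have hrat : ∀ a b : C, orderOf a = orderOf b → R'.r (M.ι a) (M.ι b) := by
    intro a b hab
    obtain ⟨k, hk, rfl⟩ := exists_pow_of_orderOf_eq hab (m := m) (by omega) orderOf_dvd_card
    exact ⟨a, a ^ k, k, hk, R.equiv.refl _, R.equiv.refl _, rfl⟩
  have hall := R'.rational_trivial M hC hrat
  -- all classes have the same size and the same trace on `C`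
  let cl : D → Finset D := fun g => univ.filter fun h => R.r g h
  let tr : D → Finset C := fun g => univ.filter fun c => R.r g (M.ι c)
  have hcl : ∀ g h, cl g = cl h ↔ R.r g h := fun g h => by
    constructor
    · intro e
      have : h ∈ cl g := e ▸ (by simp [cl, R.equiv.refl])
      simpa [cl] using this
    · intro e
      ext k
      simp only [cl, Finset.mem_filter, Finset.mem_univ, true_and]
      exact ⟨R.equiv.trans (R.equiv.symm e), R.equiv.trans e⟩
  obtain ⟨z, hz⟩ : ∃ z : C, z ≠ 1 :=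
    Fintype.exists_ne_of_one_lt_card (by omega) 1
  have hιz : M.ι z ≠ 1 := fun h => hz ((map_eq_one_iff M.ι M.inj).1 h)
  have hsize : ∀ g, g ≠ 1 → (cl g).card = (cl (M.ι z)).card ∧ (tr g).card = (tr (M.ι z)).card := by
    intro g hg
    obtain ⟨a, b, k, hk, ha, hb, rfl⟩ := hall (M.ι z) g hιz hg
    obtain ⟨k', hk', hkk, he⟩ := hinvk hk a
    constructor
    · rw [(hcl _ _).2 ha, (hcl _ _).2 hb]
      set x := ind {h | R.r (M.ι a) h}
      set y := ind {h | R.r (M.ι (a ^ k)) h}
      have hx : R.Inv x := R.inv_ind (R.closed_cls _)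
      have hy : R.Inv y := R.inv_ind (R.closed_cls _)
      obtain ⟨q, hq, hodd, hqn, hqk⟩ :=
        exists_large_prime (m := m) (by omega) hk (Fintype.card D)
      have := Fact.mk hq
      have hd : (q : R.ring) ∣ (⟨x, hx⟩ : R.ring) ^ q - ⟨y, hy⟩ := by
        refine (R.natCast_dvd _).2 (R.dvd_of_cPart M hC ((⟨x, hx⟩ : R.ring) ^ q - ⟨y, hy⟩).2 fun c => ?_)
        rw [AddSubgroupClass.coe_sub, SubmonoidClass.coe_pow, MonoidAlgebra.coeff_sub,
          Finsupp.sub_apply, ← ZMod.intCast_zmod_eq_zero_iff_dvd, Int.cast_sub, sub_eq_zero,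
          pow_eq_root R M hodd hqk hkk hx c]
        have hc' : (c ^ k') ^ k = c := by
          rw [← pow_mul, mul_comm]
          conv_rhs => rw [← pow_one c]
          exact pow_eq_pow_iff_modEq.2 (hkk.of_dvd orderOf_dvd_card)
        have hiff : R.r (M.ι a) (M.ι (c ^ k')) ↔ R.r (M.ι (a ^ k)) (M.ι c) := by
          refine ⟨fun h => ?_, fun h => ?_⟩
          · have := R.compat M hC hk h
            rwa [hc'] at this
          · have := R.compat M hC hk' h
            rwa [he] at this
        simp [x, y, ind, hiff, -map_pow]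
      have hd2 : (q : R.ring) ∣
          ((⟨x, hx⟩ : R.ring) * ⟨x, hx⟩) ^ q - ⟨y, hy⟩ * ⟨y, hy⟩ := by
        have := dvd_add (hd.mul_right ((⟨x, hx⟩ : R.ring) ^ q)) (hd.mul_left (⟨y, hy⟩ : R.ring))
        convert this using 1
        ring
      have h1 := (R.natCast_dvd _).1 hd2 1
      rw [AddSubgroupClass.coe_sub, SubmonoidClass.coe_pow, Subring.coe_mul, Subring.coe_mul,
        MonoidAlgebra.coeff_sub, Finsupp.sub_apply, ← ZMod.intCast_zmod_eq_zero_iff_dvd,
        Int.cast_sub, ← map_one M.ι, pow_eq_root R M hodd hqk hkk (R.mul x x hx hx) 1, one_pow,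
        ← Int.cast_sub, ZMod.intCast_zmod_eq_zero_iff_dvd] at h1
      have hsq : ∀ d : D, (ind {h | R.r d h} * ind {h | R.r d h}).coeff (M.ι 1) = ((cl d).card : ℤ) := by
        intro d
        rw [map_one, coeff_mul_eq]
        simp only [mul_one]
        rw [Finset.natCast_card_filter]
        refine Finset.sum_congr rfl fun s _ => ?_
        rw [R.coeff_inv_eq (R.inv_ind (R.closed_cls d))]
        by_cases hs : R.r d s <;> simp [ind, hs]
      rw [hsq, hsq] at h1
      have h2 := Int.eq_zero_of_abs_lt_dvd h1 (by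
        have b1 : (cl (M.ι a)).card ≤ Fintype.card D := Finset.card_le_univ _
        have b2 : (cl (M.ι (a ^ k))).card ≤ Fintype.card D := Finset.card_le_univ _
        rw [abs_lt]
        constructor <;> omega)
      omega
    · refine Finset.card_bij' (fun c _ => c ^ k') (fun c _ => c ^ k) ?_ ?_ ?_ ?_
      · intro c hc
        simp only [tr, Finset.mem_filter, Finset.mem_univ, true_and] at hc ⊢
        refine R.equiv.trans ha ?_
        have := R.compat M hC hk' (R.equiv.trans (R.equiv.symm hb) hc)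
        rwa [he] at this
      · intro c hc
        simp only [tr, Finset.mem_filter, Finset.mem_univ, true_and] at hc ⊢
        exact R.equiv.trans hb (R.compat M hC hk (R.equiv.trans (R.equiv.symm ha) hc))
      · intro c _
        rw [← pow_mul, mul_comm]
        conv_rhs => rw [← pow_one c]
        exact pow_eq_pow_iff_modEq.2 (hkk.of_dvd orderOf_dvd_card)
      · intro c _
        rw [← pow_mul]
        conv_rhs => rw [← pow_one c]
        exact pow_eq_pow_iff_modEq.2 (hkk.of_dvd orderOf_dvd_card)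
  set N := (univ.erase (1 : D)).image cl
  have h1 : (univ.erase (1 : D)).card = N.card * (cl (M.ι z)).card := by
    rw [Finset.card_eq_sum_card_image cl]
    refine Finset.sum_const_nat fun s hs => ?_
    obtain ⟨g, hg, rfl⟩ := Finset.mem_image.1 hs
    rw [Finset.mem_erase] at hg
    rw [← (hsize g hg.1).1]
    congr 1
    ext h
    simp only [Finset.mem_filter, Finset.mem_erase, hcl, cl, Finset.mem_univ, true_and, and_true]
    refine ⟨fun hh => R.equiv.symm hh.2, fun hh => ⟨fun e => hg.1 ?_, R.equiv.symm hh⟩⟩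
    subst e
    exact R.one g (R.equiv.symm hh)
  have h2 : (univ.erase (1 : C)).card = N.card * (tr (M.ι z)).card := by
    rw [Finset.card_eq_sum_card_fiberwise (f := fun c => cl (M.ι c)) (t := N)]
    · refine Finset.sum_const_nat fun s hs => ?_
      obtain ⟨g, hg, rfl⟩ := Finset.mem_image.1 hs
      rw [Finset.mem_erase] at hg
      rw [← (hsize g hg.1).2]
      congr 1
      ext c
      simp only [Finset.mem_filter, Finset.mem_erase, hcl, tr, Finset.mem_univ, true_and, and_true]
      refine ⟨fun hh => R.equiv.symm hh.2, fun hh => ⟨fun e => hg.1 ?_, R.equiv.symm hh⟩⟩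
      subst e
      rw [map_one] at hh
      exact R.one g (R.equiv.symm hh)
    · intro c hc
      refine Finset.mem_image_of_mem cl (Finset.mem_erase.2 ⟨fun h => ?_, Finset.mem_univ _⟩)
      exact (Finset.mem_erase.1 (Finset.mem_coe.1 hc)).1 ((map_eq_one_iff M.ι M.inj).1 h)
  rw [Finset.card_erase_of_mem (Finset.mem_univ _), Finset.card_univ] at h1 h2
  rw [M.card_eq] at h1
  have hN : N.card ∣ 1 := by
    have e : (2 * Fintype.card C - 1) - 2 * (Fintype.card C - 1) = 1 := by omega
    rw [← e]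
    exact Nat.dvd_sub ⟨_, h1⟩ (Dvd.dvd.mul_left ⟨_, h2⟩ 2)
  have hN1 : N.card ≤ 1 := Nat.le_of_dvd one_pos hN
  intro g h hg hh
  exact (hcl g h).1 (Finset.card_le_one.1 hN1 _
    (Finset.mem_image_of_mem cl (by simp [hg])) _ (Finset.mem_image_of_mem cl (by simp [hh])))

end SR

end Cfsg.Agent.Lib.DihedralBGroup12
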